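import Groth.Agent.SGA7.K564.Tate.Defs
import Groth.Agent.SekSuwa.K831.OrdP
import Groth.Agent.Books.AffBridge2
import Groth.Agent.Sga3B.RootBridge989
import Groth.Agent.S15055
import Groth.Agent.Sga7.H734.NerHom
import Mathlib.RingTheory.Flat.FaithfullyFlat.Algebra

/-!
# Barsotti-Tate groups over a local domain and systems of Hopf algebras

* `Model G Φ` : identifications `G n ≅ Spec (Φ.B n)` of the layers of a `ProBT` with the spectra of a `Sys`;
* `exists_model` : every `ProBT` over a discrete valuation ring has a model.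
-/

set_option autoImplicit false
universe u
open CategoryTheory CategoryTheory.Limits MonoidalCategory CartesianMonoidalCategory MonObj GrpObj AlgebraicGeometry
open TensorProduct
open Groth.Agent.Books Groth.Agent.Books.AffBridge Groth.Agent.Books.AffBridge2
open K564.Tate

namespace K852.Dict

section Gen

variable {R : Type u} [CommRing R]

/-- A Hopf algebra over a ring whose group scheme is commutative is cocommutative. -/
theorem isCocomm_of_isCommMonObj (A : Type u) [CommRing A] [HopfAlgebra R A] [IsCommMonObj (SpecOver R A)] :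
    Coalgebra.IsCocomm R A where
  comm_comp_comul := by
    let i₁ : WithConv (A →ₐ[R] A ⊗[R] A) := WithConv.toConv Algebra.TensorProduct.includeLeft
    let i₂ : WithConv (A →ₐ[R] A ⊗[R] A) := WithConv.toConv Algebra.TensorProduct.includeRight
    have h1 : i₁ * i₂ = i₂ * i₁ := by
      apply WithConv.ofConv_injective
      apply specMap_injective R
      rw [specMap_mul, specMap_mul]
      exact _root_.mul_comm _ _
    have e1 : ∀ t : A ⊗[R] A, LinearMap.mul' R (A ⊗[R] A)
        (TensorProduct.map i₁.ofConv.toLinearMap i₂.ofConv.toLinearMap t) = t := by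
      intro t
      induction t with
      | zero => simp
      | add x y hx hy => rw [map_add, map_add, hx, hy]
      | tmul x y =>
        rw [TensorProduct.map_tmul, LinearMap.mul'_apply]
        change (x ⊗ₜ[R] (1 : A)) * ((1 : A) ⊗ₜ[R] y) = _
        rw [Algebra.TensorProduct.tmul_mul_tmul, _root_.mul_one, _root_.one_mul]
    have e2 : ∀ t : A ⊗[R] A, LinearMap.mul' R (A ⊗[R] A)
        (TensorProduct.map i₂.ofConv.toLinearMap i₁.ofConv.toLinearMap t) = TensorProduct.comm R A A t := by
      intro t
      induction t with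
      | zero => simp
      | add x y hx hy => rw [map_add, map_add, map_add, hx, hy]
      | tmul x y =>
        rw [TensorProduct.map_tmul, LinearMap.mul'_apply, TensorProduct.comm_tmul]
        change ((1 : A) ⊗ₜ[R] x) * (y ⊗ₜ[R] (1 : A)) = _
        rw [Algebra.TensorProduct.tmul_mul_tmul, _root_.mul_one, _root_.one_mul]
    apply LinearMap.ext
    intro a
    have h2 := congrArg (fun z : WithConv (A →ₐ[R] A ⊗[R] A) => z.ofConv a) h1
    have h3 : (i₁ * i₂).ofConv a = LinearMap.mul' R (A ⊗[R] A)
        (TensorProduct.map i₁.ofConv.toLinearMap i₂.ofConv.toLinearMap (Coalgebra.comul (R := R) a)) := rfl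
    have h4 : (i₂ * i₁).ofConv a = LinearMap.mul' R (A ⊗[R] A)
        (TensorProduct.map i₂.ofConv.toLinearMap i₁.ofConv.toLinearMap (Coalgebra.comul (R := R) a)) := rfl
    change (i₁ * i₂).ofConv a = (i₂ * i₁).ofConv a at h2
    rw [h3, h4, e1, e2] at h2
    exact h2.symm

/-- Transport of commutativity along an isomorphism of group objects. -/
theorem isCommMonObj_of_iso {S : Scheme.{u}} {G H : Over S} [GrpObj G] [IsCommMonObj G] [GrpObj H] (e : G ≅ H)
    [IsMonHom e.hom] : IsCommMonObj H where
  mul_comm := by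
    have h1 : (e.hom ⊗ₘ e.hom) ≫ μ[H] = μ[G] ≫ e.hom := (IsMonHom.mul_hom e.hom).symm
    rw [← cancel_epi (e.hom ⊗ₘ e.hom), BraidedCategory.braiding_naturality_assoc, h1,
      IsCommMonObj.mul_comm_assoc]

/-- powers of points of an affine group scheme are convolution powers. -/
theorem specMap_pow {A C : Type u} [CommRing A] [Bialgebra R A] [CommRing C] [Algebra R C]
    (f : WithConv (A →ₐ[R] C)) (n : ℕ) : specMap R (f ^ n).ofConv = (specMap R f.ofConv) ^ n := by
  induction n with
  | zero => rw [pow_zero, pow_zero]; exact specMap_one R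
  | succ n ih => rw [pow_succ, pow_succ, specMap_mul, ih]

/-- the power map of an affine group scheme is the convolution power of the identity. -/
theorem specMap_id_pow {A : Type u} [CommRing A] [HopfAlgebra R A] [Coalgebra.IsCocomm R A] (n : ℕ) :
    specMap R (((WithConv.toConv (BialgHom.id R A)) ^ n).ofConv : A →ₐ[R] A) = (𝟙 (SpecOver R A)) ^ n := by
  have h := BialgHom.toAlgHom_convPow (R := R) (WithConv.toConv (BialgHom.id R A)) n
  have h2 : (((WithConv.toConv (BialgHom.id R A)) ^ n).ofConv : A →ₐ[R] A) =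
      ((WithConv.toConv (AlgHom.id R A)) ^ n).ofConv := congrArg WithConv.ofConv h
  rw [h2, specMap_pow]
  congr 1
  exact specMap_id R

/-- bialgebra maps are determined by the corresponding morphism of spectra. -/
theorem bialgHom_ext_of_specMap {A B : Type u} [CommRing A] [CommRing B] [Bialgebra R A] [Bialgebra R B]
    {f g : A →ₐc[R] B} (h : specMap R (f : A →ₐ[R] B) = specMap R (g : A →ₐ[R] B)) : f = g := by
  have h1 := specMap_injective R h
  apply BialgHom.coe_toAlgHom_injective
  exact h1

theorem faithfullyFlat_of_specMap {A B : Type u} [CommRing A] [CommRing B] [Algebra R A] [Algebra R B]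
    (f : A →ₐ[R] B) (h : Flat (specMap R f).left) (hs : Surjective (specMap R f).left) :
    letI := f.toRingHom.toAlgebra
    Module.FaithfullyFlat A B := by
  let := f.toRingHom.toAlgebra
  have h1 : Flat (Spec.map (CommRingCat.ofHom f.toRingHom)) := h
  rw [Flat.SpecMap_iff] at h1
  have h2 : Module.Flat A B := h1
  have h3 : Surjective (Spec.map (CommRingCat.ofHom f.toRingHom)) := hs
  refine Module.FaithfullyFlat.of_comap_surjective ?_
  exact h3.surj

/-- faithfully flat maps to torsion free algebras are injective and saturated. -/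
theorem injective_of_faithfullyFlat {A B : Type u} [CommRing A] [CommRing B] (f : A →+* B)
    (h : letI := f.toAlgebra; Module.FaithfullyFlat A B) : Function.Injective f := by
  let := f.toAlgebra
  have : Module.FaithfullyFlat A B := h
  exact FaithfulSMul.algebraMap_injective A B

theorem exists_of_smul [IsDomain R] {A B : Type u} [CommRing A] [CommRing B] [Algebra R A] [Algebra R B]
    [Module.IsTorsionFree R B] (f : A →ₐ[R] B)
    (h : letI := f.toRingHom.toAlgebra; Module.FaithfullyFlat A B) (r : R) (b : B) (hr : r ≠ 0)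
    (hb : ∃ a, f a = r • b) : ∃ a, f a = b := by
  let := f.toRingHom.toAlgebra
  have hff : Module.FaithfullyFlat A B := h
  obtain ⟨a, ha⟩ := hb
  have h1 : Ideal.comap (algebraMap A B) (Ideal.map (algebraMap A B) (Ideal.span {algebraMap R A r})) =
      Ideal.span {algebraMap R A r} := Ideal.comap_map_eq_self_of_faithfullyFlat _
  have h2 : a ∈ Ideal.comap (algebraMap A B) (Ideal.map (algebraMap A B) (Ideal.span {algebraMap R A r})) := by
    rw [Ideal.mem_comap, Ideal.map_span, Set.image_singleton, Ideal.mem_span_singleton]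
    have e : algebraMap A B (algebraMap R A r) = algebraMap R B r := f.commutes r
    rw [e]
    refine ⟨b, ?_⟩
    rw [← Algebra.smul_def]
    exact ha
  rw [h1, Ideal.mem_span_singleton] at h2
  obtain ⟨c, rfl⟩ := h2
  refine ⟨c, ?_⟩
  have h3 : r • f c = r • b := by
    rw [← ha, map_mul, AlgHom.commutes, Algebra.smul_def]
  exact smul_right_injective B hr h3

end Gen

/-- Identifications of the layers of an `ℓ`-divisible group with the spectra of a system of Hopf algebras. -/
structure Model {R : Type u} [CommRing R] {p h : ℕ} (G : BTGrp.ProBT p (Spec (CommRingCat.of R)) h)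
    (Φ : Sys R p h) where
  iso : ∀ n, G.G n ≅ SpecOver R (Φ.B n)
  hom_iso : ∀ n, IsMonHom (iso n).hom
  incl : ∀ n, G.incl n ≫ (iso (n + 1)).hom = (iso n).hom ≫ specMap R (Φ.res n : Φ.B (n + 1) →ₐ[R] Φ.B n)
  proj : ∀ n, G.proj n ≫ (iso n).hom = (iso (n + 1)).hom ≫ specMap R (Φ.inf n : Φ.B n →ₐ[R] Φ.B (n + 1))

attribute [instance] Model.hom_iso

section Ex

variable {R : Type u} [CommRing R]

theorem exists_level [IsLocalRing R] (G : Over (Spec (CommRingCat.of R))) [GrpObj G] [IsCommMonObj G] {d : ℕ}
    (hG : Mor2.IsFinLocFreeOfDeg d G.hom) :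
    ∃ (B : Type u) (_ : CommRing B) (_ : HopfAlgebra R B) (e : G ≅ SpecOver R B), IsMonHom e.hom ∧
      Coalgebra.IsCocomm R B ∧ Module.Finite R B ∧ Module.Free R B ∧ Module.finrank R B = d := by
  have h1 : IsFinite G.hom := hG.1.1
  have h2 : Flat G.hom := hG.1.2.1
  obtain ⟨B, _, _, i, hi, hfin, hfree⟩ := K831.OrdP.exists_hopf_free G
  have e : SpecOver R B ≅ G := i
  have hi' : IsMonHom i.symm.hom := inferInstanceAs (IsMonHom i.inv)
  have hc : IsCommMonObj (SpecOver R B) := isCommMonObj_of_iso (H := SpecOver R B) i.symm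
  refine ⟨B, inferInstance, inferInstance, i.symm, hi', isCocomm_of_isCommMonObj B, hfin, hfree, ?_⟩
  have h3 : (SpecOver R B).hom = i.hom.left ≫ G.hom := (Over.w i.hom).symm
  have h0 : IsIso i.hom.left := inferInstanceAs (IsIso ((Over.forget _).map i.hom))
  have h4 := Scheme.Hom.finrank_SpecMap_algebraMap R B (IsLocalRing.closedPoint R)
  have h5 := Scheme.Hom.finrank_comp_left_of_isIso i.hom.left G.hom
  have h6 : (SpecOver R B).hom.finrank (IsLocalRing.closedPoint R) = d := by
    rw [h3, h5]
    exact hG.2 _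
  have h7 : Scheme.Hom.finrank (Spec.map (CommRingCat.ofHom (algebraMap R B))) (IsLocalRing.closedPoint R) = d := h6
  rw [h4] at h7
  rw [← h7, Module.rankAtStalk_eq_finrank_of_free]
  rfl

/-- powers of the identity are transported by isomorphisms of group objects. -/
theorem pow_conj {S : Scheme.{u}} {G H : Over S} [GrpObj G] [GrpObj H] (e : G ≅ H) [IsMonHom e.hom] (n : ℕ) :
    e.inv ≫ ((𝟙 G) ^ n) ≫ e.hom = (𝟙 H) ^ n := by
  rw [MonObj.pow_comp, MonObj.comp_pow, Category.id_comp, Iso.inv_hom_id]

/-- a composite of two bialgebra maps is a convolution power of the identity. -/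
theorem comp_eq_pow {G G' : Over (Spec (CommRingCat.of R))} [GrpObj G] [GrpObj G'] {A B : Type u} [CommRing A]
    [CommRing B] [HopfAlgebra R A] [HopfAlgebra R B] [Coalgebra.IsCocomm R A]
    (e : G ≅ SpecOver R A) [IsMonHom e.hom] (e' : G' ≅ SpecOver R B)
    (f : A →ₐc[R] B) (g : B →ₐc[R] A) (a : G' ⟶ G) (b : G ⟶ G') (n : ℕ)
    (ha : specMap R (f : A →ₐ[R] B) = e'.inv ≫ a ≫ e.hom) (hb : specMap R (g : B →ₐ[R] A) = e.inv ≫ b ≫ e'.hom)
    (h : b ≫ a = (𝟙 G) ^ n) : g.comp f = ((WithConv.toConv (BialgHom.id R A)) ^ n).ofConv := by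
  apply bialgHom_ext_of_specMap
  have h1 : specMap R ((g.comp f : A →ₐc[R] A) : A →ₐ[R] A) =
      specMap R (g : B →ₐ[R] A) ≫ specMap R (f : A →ₐ[R] B) :=
    specMap_comp R (f : A →ₐ[R] B) (g : B →ₐ[R] A)
  rw [h1, ha, hb, specMap_id_pow, Category.assoc, Category.assoc, Iso.hom_inv_id_assoc, ← Category.assoc b a, h,
    pow_conj]

theorem exists_model [IsDomain R] [IsLocalRing R] [IsNoetherianRing R] {p h : ℕ} [Fact p.Prime]
    (G : BTGrp.ProBT p (Spec (CommRingCat.of R)) h) : ∃ Φ : Sys R p h, Nonempty (Model G Φ) := by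
  choose B hr hh e he hco hfi hfr hrk using fun n => exists_level (G.G n) (G.finLocFree n)
  have hincl : ∀ n, ∃ φ : B (n + 1) →ₐc[R] B n,
      specMap R (φ : B (n + 1) →ₐ[R] B n) = (e n).inv ≫ G.incl n ≫ (e (n + 1)).hom := by
    intro n
    have := he n
    have := he (n + 1)
    exact exists_bialgHom_of_isMonHom R ((e n).inv ≫ G.incl n ≫ (e (n + 1)).hom)
  have hproj : ∀ n, ∃ φ : B n →ₐc[R] B (n + 1),
      specMap R (φ : B n →ₐ[R] B (n + 1)) = (e (n + 1)).inv ≫ G.proj n ≫ (e n).hom := by
    intro n
    have := he n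
    have := he (n + 1)
    exact exists_bialgHom_of_isMonHom R ((e (n + 1)).inv ≫ G.proj n ≫ (e n).hom)
  choose res hres using hincl
  choose inf hinf using hproj
  have hff : ∀ n, letI := (inf n : B n →ₐ[R] B (n + 1)).toRingHom.toAlgebra
      Module.FaithfullyFlat (B n) (B (n + 1)) := by
    intro n
    let i : (t : ℕ) → (G.G 1 ⟶ G.G (t + 1)) := fun t => Nat.rec (𝟙 (G.G 1)) (fun t x => x ≫ G.incl (t + 1)) t
    obtain ⟨-, h1, h2⟩ := Groth.Agent.S15055.result R p h G i rfl (fun _ => rfl) n
    have h3 : Flat (G.proj n).left := h1.1.2.1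
    have h4 : IsIso (e (n + 1)).inv.left := inferInstanceAs (IsIso ((Over.forget _).map (e (n + 1)).inv))
    have h5 : IsIso (e n).hom.left := inferInstanceAs (IsIso ((Over.forget _).map (e n).hom))
    apply faithfullyFlat_of_specMap
    · rw [hinf, Over.comp_left, Over.comp_left]
      infer_instance
    · rw [hinf, Over.comp_left, Over.comp_left]
      infer_instance
  refine ⟨{ B := B, ring := hr, hopf := hh, cocomm := hco, fin := hfi, free := hfr, rank := hrk, res := res,
            inf := inf, res_surj := ?_, inf_inj := ?_, inf_sat := ?_, res_inf := ?_, inf_res := ?_ },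
          ⟨{ iso := e, hom_iso := he, incl := ?_, proj := ?_ }⟩⟩
  · intro n
    have h0 : IsFinite (G.G (n + 1)).hom := (G.finLocFree (n + 1)).1.1
    have hcl := Groth.Agent.Sga7.H734.NerHom.isClosedImmersion_ker _ _ (G.isKernel n)
    have h4 : IsIso (e (n + 1)).hom.left := inferInstanceAs (IsIso ((Over.forget _).map (e (n + 1)).hom))
    have h5 : IsIso (e n).inv.left := inferInstanceAs (IsIso ((Over.forget _).map (e n).inv))
    have hcl : IsClosedImmersion (specMap R (res n : B (n + 1) →ₐ[R] B n)).left := by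
      rw [hres, Over.comp_left, Over.comp_left]
      infer_instance
    exact (isClosedImmersion_specMap_iff R _).mp hcl
  · intro n
    exact injective_of_faithfullyFlat (inf n : B n →ₐ[R] B (n + 1)).toRingHom (hff n)
  · intro n r b hr0 hb
    exact exists_of_smul (inf n : B n →ₐ[R] B (n + 1)) (hff n) r b hr0 hb
  · intro n
    have := he n
    exact comp_eq_pow (e n) (e (n + 1)) (inf n) (res n) (G.proj n) (G.incl n) p (hinf n) (hres n) (G.incl_proj n)
  · intro n
    have := he (n + 1)
    exact comp_eq_pow (e (n + 1)) (e n) (res n) (inf n) (G.incl n) (G.proj n) p (hres n) (hinf n) (G.proj_incl n)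
  · intro n
    rw [hres]
    simp
  · intro n
    rw [hinf]
    simp

end Ex

end K852.Dict
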