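import Groth.Agent.SGA7.K852.Dict
import Groth.Agent.SGA7.K564.Tate.BC
import Groth.Agent.Sga3A.FibDomain2
import Groth.Prelude.Def_SGA7IX

/-!
# Tate's theorem for Barsotti-Tate groups, from the statement for systems of Hopf algebras

* `Full R K p` : full faithfulness of the generic fibre for systems of Hopf algebras over `R`;
* `exists_hom` : homomorphisms of the generic fibres of `ProBT`s extend;
* `exists_iso` : isomorphisms of the generic fibres extend to isomorphisms.
-/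

set_option autoImplicit false
universe u
open CategoryTheory CategoryTheory.Limits MonoidalCategory CartesianMonoidalCategory MonObj GrpObj AlgebraicGeometry
open TensorProduct
open Groth.Agent.Books Groth.Agent.Books.AffBridge Groth.Agent.Books.AffBridge2
open K564.Tate

namespace K852.Sch

open K852.Dict Groth.Agent.Sga3B.RootBridge989

/-- Full faithfulness of the generic fibre functor for systems of Hopf algebras. -/
def Full (R K : Type u) [CommRing R] [Field K] [Algebra R K] (p : ℕ) : Prop :=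
  ∀ (h h' : ℕ) (Φ : Sys R p h) (Φ' : Sys R p h') (φ : ∀ n, K ⊗[R] Φ'.B n →ₐc[K] K ⊗[R] Φ.B n),
  (∀ n (a : Φ'.B (n + 1)), φ n (1 ⊗ₜ Φ'.res n a) =
    (Φ.res n : Φ.B (n + 1) →ₐ[R] Φ.B n).toLinearMap.lTensor K (φ (n + 1) (1 ⊗ₜ a))) →
  (∀ n (a : Φ'.B n), φ (n + 1) (1 ⊗ₜ Φ'.inf n a) =
    (Φ.inf n : Φ.B n →ₐ[R] Φ.B (n + 1)).toLinearMap.lTensor K (φ n (1 ⊗ₜ a))) →
  ∀ n (a : Φ'.B n), ∃ b : Φ.B n, φ n (1 ⊗ₜ a) = 1 ⊗ₜ b

theorem full_of_NFull (H : NFull.{u}) (R K : Type u) [CommRing R] [IsDomain R] [IsDiscreteValuationRing R]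
    [CharZero R] [Field K] [Algebra R K] [IsFractionRing R K] (p : ℕ) [Fact p.Prime]
    (hp : (p : R) ∈ IsLocalRing.maximalIdeal R) : Full R K p :=
  fun h h' Φ Φ' φ h1 h2 n a => NFull.descend H R K p h h' hp Φ Φ' φ h1 h2 n a

section Alg

variable {R : Type u} [CommRing R] {K : Type u} [Field K] [Algebra R K]

theorem mapBialg_eq {A B : Type u} [CommRing A] [CommRing B] [Bialgebra R A] [Bialgebra R B] (f : A →ₐc[R] B)
    (x : K ⊗[R] A) : Groth.Agent.Sga3A.BCIso.mapBialg K f x = (f : A →ₐ[R] B).toLinearMap.lTensor K x := by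
  induction x using TensorProduct.induction_on with
  | zero => rw [map_zero, map_zero]
  | tmul s a => rfl
  | add x y hx hy => rw [map_add, map_add, hx, hy]

variable [IsFractionRing R K]

theorem injective_one_tmul (B : Type u) [CommRing B] [Algebra R B] [Module.Flat R B] :
    Function.Injective (fun b : B => (1 : K) ⊗ₜ[R] b) := by
  have h1 : Function.Injective ((Algebra.linearMap R K).rTensor B) :=
    Module.Flat.rTensor_preserves_injective_linearMap (Algebra.linearMap R K) (IsFractionRing.injective R K)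
  have h2 : (fun v : B => (1 : K) ⊗ₜ[R] v) =
      ((Algebra.linearMap R K).rTensor B) ∘ (TensorProduct.lid R B).symm := by
    ext v
    simp
  rw [h2]
  exact h1.comp (TensorProduct.lid R B).symm.injective

/-- a bialgebra map over `K` preserving the lattices comes from a bialgebra map over `R`. -/
theorem exists_map {A B : Type u} [CommRing A] [CommRing B] [HopfAlgebra R A] [HopfAlgebra R B] [Module.Flat R B]
    (φ : K ⊗[R] A →ₐc[K] K ⊗[R] B) (h : ∀ a : A, ∃ b : B, φ (1 ⊗ₜ a) = 1 ⊗ₜ b) :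
    ∃ g : A →ₐc[R] B, φ = Groth.Agent.Sga3A.BCIso.mapBialg K g := by
  choose g hg using h
  have hinj := injective_one_tmul (R := R) (K := K) B
  let g' : A →ₐ[R] B :=
    { toFun := g
      map_one' := hinj (by
        change (1 : K) ⊗ₜ[R] g 1 = 1 ⊗ₜ 1
        rw [← hg]
        exact map_one φ)
      map_mul' := fun x y => hinj (by
        change (1 : K) ⊗ₜ[R] g (x * y) = 1 ⊗ₜ (g x * g y)
        rw [← hg, ← _root_.one_mul (1 : K), ← Algebra.TensorProduct.tmul_mul_tmul, map_mul, hg, hg,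
          Algebra.TensorProduct.tmul_mul_tmul])
      map_zero' := hinj (by
        change (1 : K) ⊗ₜ[R] g 0 = 1 ⊗ₜ 0
        rw [← hg, TensorProduct.tmul_zero, TensorProduct.tmul_zero, map_zero])
      map_add' := fun x y => hinj (by
        change (1 : K) ⊗ₜ[R] g (x + y) = 1 ⊗ₜ (g x + g y)
        rw [← hg, TensorProduct.tmul_add, TensorProduct.tmul_add, map_add, hg, hg])
      commutes' := fun r => hinj (by
        change (1 : K) ⊗ₜ[R] g (algebraMap R A r) = 1 ⊗ₜ (algebraMap R B r)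
        rw [← hg]
        have e1 : (1 : K) ⊗ₜ[R] algebraMap R A r = algebraMap K (K ⊗[R] A) (algebraMap R K r) := by
          rw [Algebra.TensorProduct.algebraMap_apply, Algebra.algebraMap_self_apply,
            Algebra.algebraMap_eq_smul_one r, ← TensorProduct.smul_tmul, ← Algebra.algebraMap_eq_smul_one r]
        have e2 : (1 : K) ⊗ₜ[R] algebraMap R B r = algebraMap K (K ⊗[R] B) (algebraMap R K r) := by
          rw [Algebra.TensorProduct.algebraMap_apply, Algebra.algebraMap_self_apply,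
            Algebra.algebraMap_eq_smul_one r, ← TensorProduct.smul_tmul, ← Algebra.algebraMap_eq_smul_one r]
        rw [e1, e2]
        exact AlgHomClass.commutes φ _) }
  obtain ⟨g'', hg''⟩ := Groth.Agent.Sga3A.FibDomain.exists_bialgHom (IsFractionRing.injective R K) g' φ hg
  refine ⟨g'', ?_⟩
  apply BialgHom.ext
  intro x
  induction x using TensorProduct.induction_on with
  | zero => rw [map_zero, map_zero]
  | add x y hx hy => rw [map_add, map_add, hx, hy]
  | tmul s a =>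
    rw [Groth.Agent.Sga3A.BCIso.mapBialg_tmul, hg'']
    have e : s ⊗ₜ[R] a = s • ((1 : K) ⊗ₜ[R] a) := by rw [TensorProduct.smul_tmul', smul_eq_mul, _root_.mul_one]
    rw [e, map_smul, hg, TensorProduct.smul_tmul', smul_eq_mul, _root_.mul_one]
    rfl

end Alg

section Scheme

variable {R : Type u} [CommRing R] {K : Type u} [Field K] [Algebra R K] {p h h' : ℕ}

/-- The generic fibre of a model. -/
noncomputable def gIso {G : BTGrp.ProBT p (Spec (CommRingCat.of R)) h} {Φ : Sys R p h} (M : Model G Φ) (n : ℕ) :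
    (SGA7.genFib R K).obj (G.G n) ≅ SpecOver K (K ⊗[R] Φ.B n) :=
  (SGA7.genFib R K).mapIso (M.iso n) ≪≫ bcIso K (Φ.B n)

instance {G : BTGrp.ProBT p (Spec (CommRingCat.of R)) h} {Φ : Sys R p h} (M : Model G Φ) (n : ℕ) :
    IsMonHom (gIso (K := K) M n).hom := by
  change IsMonHom ((SGA7.genFib R K).map (M.iso n).hom ≫ (bcIso K (Φ.B n)).hom)
  infer_instance

theorem gIso_incl {G : BTGrp.ProBT p (Spec (CommRingCat.of R)) h} {Φ : Sys R p h} (M : Model G Φ) (n : ℕ) :
    (SGA7.genFib R K).map (G.incl n) ≫ (gIso (K := K) M (n + 1)).hom = (gIso (K := K) M n).hom ≫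
      specMap K (Groth.Agent.Sga3A.BCIso.mapBialg K (Φ.res n) : K ⊗[R] Φ.B (n + 1) →ₐ[K] K ⊗[R] Φ.B n) := by
  change (SGA7.genFib R K).map (G.incl n) ≫ (SGA7.genFib R K).map (M.iso (n + 1)).hom ≫ (bcIso K (Φ.B (n + 1))).hom =
    ((SGA7.genFib R K).map (M.iso n).hom ≫ (bcIso K (Φ.B n)).hom) ≫ _
  rw [← Category.assoc, ← Functor.map_comp, M.incl, Functor.map_comp, Category.assoc, Category.assoc]
  congr 1
  exact bcIso_naturality K (Φ.res n)

theorem gIso_proj {G : BTGrp.ProBT p (Spec (CommRingCat.of R)) h} {Φ : Sys R p h} (M : Model G Φ) (n : ℕ) :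
    (SGA7.genFib R K).map (G.proj n) ≫ (gIso (K := K) M n).hom = (gIso (K := K) M (n + 1)).hom ≫
      specMap K (Groth.Agent.Sga3A.BCIso.mapBialg K (Φ.inf n) : K ⊗[R] Φ.B n →ₐ[K] K ⊗[R] Φ.B (n + 1)) := by
  change (SGA7.genFib R K).map (G.proj n) ≫ (SGA7.genFib R K).map (M.iso n).hom ≫ (bcIso K (Φ.B n)).hom =
    ((SGA7.genFib R K).map (M.iso (n + 1)).hom ≫ (bcIso K (Φ.B (n + 1))).hom) ≫ _
  rw [← Category.assoc, ← Functor.map_comp, M.proj, Functor.map_comp, Category.assoc, Category.assoc]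
  congr 1
  exact bcIso_naturality K (Φ.inf n)

variable [IsFractionRing R K]

/-- The generic fibre functor is faithful on maps between flat affine schemes. -/
theorem map_injective {A B : Type u} [CommRing A] [CommRing B] [HopfAlgebra R A] [HopfAlgebra R B] [Module.Flat R B]
    {X Y : Over (Spec (CommRingCat.of R))} (eX : X ≅ SpecOver R B) (eY : Y ≅ SpecOver R A) (a b : X ⟶ Y)
    (hab : (SGA7.genFib R K).map a = (SGA7.genFib R K).map b) : a = b := by
  have h1 : eX.inv ≫ a ≫ eY.hom = eX.inv ≫ b ≫ eY.hom := by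
    obtain ⟨u, hu⟩ : ∃ u, specMap R u = eX.inv ≫ a ≫ eY.hom := ⟨_, specMap_specPreimage R _⟩
    obtain ⟨v, hv⟩ : ∃ v, specMap R v = eX.inv ≫ b ≫ eY.hom := ⟨_, specMap_specPreimage R _⟩
    rw [← hu, ← hv]
    congr 1
    have h2 : (SGA7.genFib R K).map (specMap R u) = (SGA7.genFib R K).map (specMap R v) := by
      rw [hu, hv, Functor.map_comp, Functor.map_comp, Functor.map_comp, Functor.map_comp, hab]
    have h3 : prBc (sm R K) (SpecOver R B) ≫ (specMap R u).left = prBc (sm R K) (SpecOver R B) ≫ (specMap R v).left := by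
      rw [← map_prBc, ← map_prBc]
      exact congrArg (fun t => t ≫ prBc (sm R K) (SpecOver R A)) (congrArg (fun t => t.left) h2)
    have h4 : prA R K B ≫ (specMap R u).left = prA R K B ≫ (specMap R v).left := by
      have hI : IsIso (bcIso K B (R := R)).hom.left := inferInstanceAs (IsIso ((Over.forget _).map (bcIso K B (R := R)).hom))
      rw [← cancel_epi (bcIso K B (R := R)).hom.left, ← Category.assoc, ← Category.assoc, bcIso_left, h3]
    have h5 : Spec.map (CommRingCat.ofHom u.toRingHom ≫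
        CommRingCat.ofHom (Algebra.TensorProduct.includeRight : B →ₐ[R] K ⊗[R] B).toRingHom) =
        Spec.map (CommRingCat.ofHom v.toRingHom ≫
        CommRingCat.ofHom (Algebra.TensorProduct.includeRight : B →ₐ[R] K ⊗[R] B).toRingHom) := by
      rw [Spec.map_comp, Spec.map_comp]
      exact h4
    have h6 := Spec.map_injective h5
    ext x
    have h7 := congrArg (fun t => t.hom x) h6
    exact injective_one_tmul (K := K) B h7
  rw [← cancel_mono eY.hom, ← cancel_epi eX.inv]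
  exact h1

theorem comm_square {X X' Y Y' : Over (Spec (CommRingCat.of K))} {A A' B B' : Type u} [CommRing A] [CommRing A']
    [CommRing B] [CommRing B'] [Algebra K A] [Algebra K A'] [Algebra K B] [Algebra K B'] (eX : X ≅ SpecOver K A)
    (eX' : X' ≅ SpecOver K A') (eY : Y ≅ SpecOver K B) (eY' : Y' ≅ SpecOver K B') (x : X ⟶ X') (y : Y ⟶ Y') (f : X ⟶ Y)
    (f' : X' ⟶ Y') (x' : A' →ₐ[K] A) (y' : B' →ₐ[K] B) (g : B →ₐ[K] A) (g' : B' →ₐ[K] A')
    (hg : specMap K g = eX.inv ≫ f ≫ eY.hom) (hg' : specMap K g' = eX'.inv ≫ f' ≫ eY'.hom)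
    (hx : x ≫ eX'.hom = eX.hom ≫ specMap K x') (hy : y ≫ eY'.hom = eY.hom ≫ specMap K y')
    (h : f ≫ y = x ≫ f') : g.comp y' = x'.comp g' := by
  apply specMap_injective K
  rw [specMap_comp, specMap_comp, hg, hg', Category.assoc, Category.assoc, ← hy, ← Category.assoc f, h,
    ← cancel_epi eX.hom, Iso.hom_inv_id_assoc, ← Category.assoc eX.hom, ← hx]
  simp only [Category.assoc, Iso.hom_inv_id_assoc]

/-- **Tate's theorem**, scheme form: homomorphisms of the generic fibres extend. -/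
theorem exists_hom_of_model (hF : Full R K p) {G : BTGrp.ProBT p (Spec (CommRingCat.of R)) h}
    {H : BTGrp.ProBT p (Spec (CommRingCat.of R)) h'} {Φ : Sys R p h} {Φ' : Sys R p h'} (MG : Model G Φ)
    (MH : Model H Φ')
    (f : ∀ n, (SGA7.genFib R K).obj (G.G n) ⟶ (SGA7.genFib R K).obj (H.G n)) (hf : ∀ n, IsMonHom (f n))
    (hincl : ∀ n, f n ≫ (SGA7.genFib R K).map (H.incl n) = (SGA7.genFib R K).map (G.incl n) ≫ f (n + 1))
    (hproj : ∀ n, f (n + 1) ≫ (SGA7.genFib R K).map (H.proj n) = (SGA7.genFib R K).map (G.proj n) ≫ f n) (n : ℕ) :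
    ∃ F : G.G n ⟶ H.G n, IsMonHom F ∧ (SGA7.genFib R K).map F = f n := by
  have hφ : ∀ n, ∃ φ : K ⊗[R] Φ'.B n →ₐc[K] K ⊗[R] Φ.B n,
      specMap K (φ : K ⊗[R] Φ'.B n →ₐ[K] K ⊗[R] Φ.B n) = (gIso (K := K) MG n).inv ≫ f n ≫ (gIso (K := K) MH n).hom := by
    intro n
    have := hf n
    exact exists_bialgHom_of_isMonHom K ((gIso (K := K) MG n).inv ≫ f n ≫ (gIso (K := K) MH n).hom)
  choose φ hφ using hφ
  have h1 : ∀ n (a : Φ'.B (n + 1)), φ n (1 ⊗ₜ Φ'.res n a) =
      (Φ.res n : Φ.B (n + 1) →ₐ[R] Φ.B n).toLinearMap.lTensor K (φ (n + 1) (1 ⊗ₜ a)) := by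
    intro n a
    have e1 := comm_square _ _ _ _ _ _ _ _ _ _ _ _ (hφ n) (hφ (n + 1)) (gIso_incl MG n) (gIso_incl MH n) (hincl n)
    have e2 := congrArg (fun t => t (1 ⊗ₜ a)) e1
    rw [← mapBialg_eq]
    exact e2
  have h2 : ∀ n (a : Φ'.B n), φ (n + 1) (1 ⊗ₜ Φ'.inf n a) =
      (Φ.inf n : Φ.B n →ₐ[R] Φ.B (n + 1)).toLinearMap.lTensor K (φ n (1 ⊗ₜ a)) := by
    intro n a
    have e1 := comm_square _ _ _ _ _ _ _ _ _ _ _ _ (hφ (n + 1)) (hφ n) (gIso_proj MG n) (gIso_proj MH n) (hproj n)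
    have e2 := congrArg (fun t => t (1 ⊗ₜ a)) e1
    rw [← mapBialg_eq]
    exact e2
  obtain ⟨g, hg⟩ := exists_map (φ n) (hF h h' Φ Φ' φ h1 h2 n)
  have hm : IsMonHom (specMap R (g : Φ'.B n →ₐ[R] Φ.B n)) := isMonHom_specMap R g
  refine ⟨(MG.iso n).hom ≫ specMap R (g : Φ'.B n →ₐ[R] Φ.B n) ≫ (MH.iso n).inv, inferInstance, ?_⟩
  have h3 := hφ n
  rw [hg] at h3
  have h4 : f n = (gIso (K := K) MG n).hom ≫
      specMap K (Groth.Agent.Sga3A.BCIso.mapBialg K g : K ⊗[R] Φ'.B n →ₐ[K] K ⊗[R] Φ.B n) ≫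
        (gIso (K := K) MH n).inv := by
    rw [h3]
    simp only [Category.assoc, Iso.hom_inv_id_assoc, Iso.hom_inv_id, Category.comp_id]
  have h5 := bcIso_naturality K g (R := R)
  rw [h4, Functor.map_comp, Functor.map_comp]
  change _ = ((SGA7.genFib R K).map (MG.iso n).hom ≫ (bcIso K (Φ.B n)).hom) ≫ _ ≫ (bcIso K (Φ'.B n)).inv ≫
    (SGA7.genFib R K).map (MH.iso n).inv
  rw [Category.assoc, ← Category.assoc (bcIso K (Φ.B n)).hom, ← h5]
  simp only [Category.assoc, Iso.hom_inv_id_assoc]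

variable [IsDomain R] [IsLocalRing R] [IsNoetherianRing R] [Fact p.Prime]

/-- The generic fibre functor is faithful on homomorphisms between layers of `ProBT`s. -/
theorem map_injective_layer (G : BTGrp.ProBT p (Spec (CommRingCat.of R)) h) (H : BTGrp.ProBT p (Spec (CommRingCat.of R)) h')
    {m n : ℕ} (a b : G.G m ⟶ H.G n) (hab : (SGA7.genFib R K).map a = (SGA7.genFib R K).map b) : a = b := by
  obtain ⟨Φ, ⟨MG⟩⟩ := exists_model G
  obtain ⟨Φ', ⟨MH⟩⟩ := exists_model H
  exact map_injective (MG.iso m) (MH.iso n) a b hab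

/-- **Tate's theorem**, scheme form: homomorphisms of the generic fibres extend (uniquely, by
`map_injective_layer`). -/
theorem exists_hom (hF : Full R K p) (G : BTGrp.ProBT p (Spec (CommRingCat.of R)) h)
    (H : BTGrp.ProBT p (Spec (CommRingCat.of R)) h')
    (f : ∀ n, (SGA7.genFib R K).obj (G.G n) ⟶ (SGA7.genFib R K).obj (H.G n)) (hf : ∀ n, IsMonHom (f n))
    (hincl : ∀ n, f n ≫ (SGA7.genFib R K).map (H.incl n) = (SGA7.genFib R K).map (G.incl n) ≫ f (n + 1))
    (hproj : ∀ n, f (n + 1) ≫ (SGA7.genFib R K).map (H.proj n) = (SGA7.genFib R K).map (G.proj n) ≫ f n) :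
    ∃ F : BTGrp.ProBT.Hom G H, ∀ n, (SGA7.genFib R K).map (F.app n) = f n := by
  obtain ⟨Φ, ⟨MG⟩⟩ := exists_model G
  obtain ⟨Φ', ⟨MH⟩⟩ := exists_model H
  choose F hF1 hF2 using exists_hom_of_model hF MG MH f hf hincl hproj
  refine ⟨{ app := F, hom_app := hF1, comm_incl := fun n => ?_, comm_proj := fun n => ?_ }, hF2⟩
  · apply map_injective (K := K) (MG.iso n) (MH.iso (n + 1))
    rw [Functor.map_comp, Functor.map_comp, hF2, hF2, hincl]
  · apply map_injective (K := K) (MG.iso (n + 1)) (MH.iso n)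
    rw [Functor.map_comp, Functor.map_comp, hF2, hF2, hproj]

/-- **Tate's theorem** for isomorphisms: an isomorphism of the generic fibres extends to an isomorphism. -/
theorem exists_iso (hF : Full R K p) (G : BTGrp.ProBT p (Spec (CommRingCat.of R)) h)
    (H : BTGrp.ProBT p (Spec (CommRingCat.of R)) h')
    (f : ∀ n, (SGA7.genFib R K).obj (G.G n) ≅ (SGA7.genFib R K).obj (H.G n)) (hf : ∀ n, IsMonHom (f n).hom)
    (hincl : ∀ n, (f n).hom ≫ (SGA7.genFib R K).map (H.incl n) = (SGA7.genFib R K).map (G.incl n) ≫ (f (n + 1)).hom)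
    (hproj : ∀ n, (f (n + 1)).hom ≫ (SGA7.genFib R K).map (H.proj n) =
      (SGA7.genFib R K).map (G.proj n) ≫ (f n).hom) :
    ∃ (F : BTGrp.ProBT.Hom G H) (F' : BTGrp.ProBT.Hom H G), (∀ n, (SGA7.genFib R K).map (F.app n) = (f n).hom) ∧
      (∀ n, (SGA7.genFib R K).map (F'.app n) = (f n).inv) ∧ (∀ n, F.app n ≫ F'.app n = 𝟙 _) ∧
      (∀ n, F'.app n ≫ F.app n = 𝟙 _) := by
  obtain ⟨F, h1⟩ := exists_hom hF G H (fun n => (f n).hom) hf hincl hproj
  obtain ⟨F', h2⟩ := exists_hom hF H G (fun n => (f n).inv) (fun n => by have := hf n; infer_instance)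
    (fun n => by
      rw [← cancel_epi (f n).hom, Iso.hom_inv_id_assoc, ← Category.assoc, hincl, Category.assoc, Iso.hom_inv_id,
        Category.comp_id])
    (fun n => by
      rw [← cancel_epi (f (n + 1)).hom, Iso.hom_inv_id_assoc, ← Category.assoc, hproj, Category.assoc, Iso.hom_inv_id,
        Category.comp_id])
  refine ⟨F, F', h1, h2, fun n => ?_, fun n => ?_⟩
  · apply map_injective_layer (K := K) G G
    rw [Functor.map_comp, h1, h2, Iso.hom_inv_id, CategoryTheory.Functor.map_id]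
  · apply map_injective_layer (K := K) H H
    rw [Functor.map_comp, h1, h2, Iso.inv_hom_id, CategoryTheory.Functor.map_id]

end Scheme

end K852.Sch
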