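import Groth.Agent.SGA7.K852.Cyc
import Groth.Agent.SGA7.K565.AxComp
import Mathlib.FieldTheory.IntermediateField.Adjoin.Basic

/-!
# No invariants in the twists of `C` by the powers of the cyclotomic character (unramified base)

`K` is a normed field (char `(0,p)`) whose value group is generated by `‖p‖`, `Ω` an algebraic closure with a
Galois invariant ultrametric norm extending that of `K`, `j : Ω → C` an isometric embedding with dense image.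
-/

set_option autoImplicit false

open Polynomial

namespace K852.CycGal

open K852.Cyc

variable {K Ω C : Type*} [NormedField K] [NormedField Ω] [IsUltrametricDist Ω] [NormedField C] [IsUltrametricDist C]
  [Algebra K Ω] [IsAlgClosed Ω] [Algebra.IsAlgebraic K Ω] [CharZero K] {p : ℕ} [hp : Fact p.Prime]

/-- General form. -/
theorem main (hK : ∀ x : K, ‖algebraMap K Ω x‖ = ‖x‖) (hpK : ‖(p : Ω)‖ < 1)
    (hval : ∀ x : K, x ≠ 0 → ∃ n : ℤ, ‖x‖ = ‖(p : Ω)‖ ^ n)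
    (hinv : ∀ (σ : Ω ≃ₐ[K] Ω) (x : Ω), ‖σ x‖ = ‖x‖)
    (j : Ω →+* C) (hj : ∀ x, ‖j x‖ = ‖x‖) (hd : DenseRange j)
    (ζ : ℕ → Ω) (hζ : ∀ n, IsPrimitiveRoot (ζ n) (p ^ n)) (hζ' : ∀ n, ζ (n + 1) ^ p = ζ n)
    (α β : ℕ → ℤ) (h1 : α 1 = 1) (h1' : β 1 = 1) (e m₀ : ℕ)
    (hαβ : ∀ m, m₀ ≤ m → ‖(p : Ω)‖ ^ (m + e) ≤ ‖((α (1 + p ^ m) - β (1 + p ^ m) : ℤ) : Ω)‖)
    (x : C)
    (hx : ∀ σ : Ω ≃ₐ[K] Ω, ∃ s : C →+* C, (∀ y, ‖s y‖ ≤ ‖y‖) ∧ (∀ y, s (j y) = j (σ y)) ∧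
      ∀ n a : ℕ, σ (ζ n) = ζ n ^ a → ‖(α a : C) * s x - β a * x‖ ≤ ‖(p : Ω)‖ ^ n * ‖x‖) : x = 0 := by
  -- structures on `C`
  let _ : Algebra K C := (j.comp (algebraMap K Ω)).toAlgebra
  let _ : NormedAlgebra K C :=
    { norm_smul_le := fun r y => by
        rw [Algebra.smul_def, norm_mul]
        refine le_of_eq ?_
        congr 1
        exact (hj _).trans (hK r) }
  let _ : NormedAlgebra K Ω :=
    { norm_smul_le := fun r y => by
        rw [Algebra.smul_def, norm_mul, hK] }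
  have hC0 : CharZero C := charZero_of_injective_algebraMap (algebraMap K C).injective
  have hΩ0 : CharZero Ω := charZero_of_injective_algebraMap (algebraMap K Ω).injective
  have hpC : ‖(p : C)‖ = ‖(p : Ω)‖ := by rw [← hj, map_natCast]
  have hintC : ∀ a : ℤ, ‖(a : C)‖ = ‖(a : Ω)‖ := fun a => by rw [← hj, map_intCast]
  have halg : Algebra.IsAlgebraic K Ω := inferInstance
  have hcls : IsAlgClosure K Ω := ⟨inferInstance, inferInstance⟩
  have hnorm : Normal K Ω := IsAlgClosure.normal K Ω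
  have hinj : Function.Injective j := j.injective
  have hζC : ∀ n, IsPrimitiveRoot (j (ζ n)) (p ^ n) := fun n => (hζ n).map_of_injective hinj
  have hζC' : ∀ n, j (ζ (n + 1)) ^ p = j (ζ n) := fun n => by rw [← map_pow, hζ']
  -- the closure statement
  have hcl : ∀ ε : ℝ, 0 < ε → ∃ n, ∃ y ∈ Algebra.adjoin K ({j (ζ n)} : Set C), ‖x - y‖ < ε := by
    let L : IntermediateField K Ω := IntermediateField.adjoin K (Set.range ζ)
    have h2 : x ∈ closure (Set.range fun b : L => j (algebraMap L Ω b)) := by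
      refine K565.AxComp.mem_closure (L := L) p hpK (fun σ y => hinv (σ.restrictScalars K) y) j hj hd x
        fun σ => ?_
      obtain ⟨s, hs1, hs2, hs3⟩ := hx (σ.restrictScalars K)
      refine ⟨s.toAddMonoidHom, hs1, hs2, ?_⟩
      change s x = x
      have h3 : ∀ n, ‖s x - x‖ ≤ ‖(p : Ω)‖ ^ n * ‖x‖ := by
        intro n
        have h4 := hs3 n 1 (by
          rw [pow_one]
          have h5 : ζ n ∈ L := IntermediateField.subset_adjoin K _ ⟨n, rfl⟩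
          exact σ.commutes (⟨ζ n, h5⟩ : L))
        rw [h1, h1'] at h4
        simpa using h4
      have h4 : Filter.Tendsto (fun n : ℕ => ‖(p : Ω)‖ ^ n * ‖x‖) Filter.atTop (nhds (0 * ‖x‖)) :=
        (tendsto_pow_atTop_nhds_zero_of_lt_one (norm_nonneg _) hpK).mul_const _
      rw [zero_mul] at h4
      have h5 : ‖s x - x‖ ≤ 0 := ge_of_tendsto' h4 h3
      exact sub_eq_zero.1 (norm_le_zero_iff.1 h5)
    intro ε hε
    obtain ⟨_, ⟨b, rfl⟩, hb⟩ := Metric.mem_closure_iff.1 h2 ε hε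
    rw [dist_eq_norm] at hb
    -- `b` lies in some `K[ζ n]`
    have h3 : ∃ n, (b : Ω) ∈ Algebra.adjoin K ({ζ n} : Set Ω) := by
      have h4 : (b : Ω) ∈ Algebra.adjoin K (Set.range ζ) := by
        have h5 := b.2
        rw [← IntermediateField.mem_toSubalgebra, IntermediateField.adjoin_toSubalgebra_of_isAlgebraic
          (fun y _ => Algebra.IsAlgebraic.isAlgebraic y)] at h5
        exact h5
      have h6 : Algebra.adjoin K (Set.range ζ) = ⨆ n, Algebra.adjoin K ({ζ n} : Set Ω) := by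
        rw [← Algebra.adjoin_iUnion]
        congr 1
        exact (Set.iUnion_singleton_eq_range ζ).symm
      rw [h6] at h4
      have hdir : Directed (· ≤ ·) fun n => Algebra.adjoin K ({ζ n} : Set Ω) := by
        apply directed_of_isDirected_le
        intro a c hac
        exact adjoin_mono ζ hζ' hac
      have h7 : (b : Ω) ∈ ((⨆ n, Algebra.adjoin K ({ζ n} : Set Ω) : Subalgebra K Ω) : Set Ω) := h4
      rw [Subalgebra.coe_iSup_of_directed hdir, Set.mem_iUnion] at h7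
      exact h7
    obtain ⟨n, hn⟩ := h3
    refine ⟨n, j b, ?_, hb⟩
    have h4 : Subalgebra.map (AlgHom.mk j (fun _ => rfl) : Ω →ₐ[K] C) (Algebra.adjoin K ({ζ n} : Set Ω)) =
        Algebra.adjoin K ({j (ζ n)} : Set C) := by
      rw [AlgHom.map_adjoin, Set.image_singleton]
      rfl
    rw [← h4]
    exact ⟨b, hn, rfl⟩
  -- the conclusion
  refine core (K := K) (by rw [hpC]; exact hpK) (fun y hy => by rw [hpC]; exact hval y hy) (fun n => j (ζ n))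
    hζC hζC' e (max m₀ 1) x hcl fun m k hm hk => ?_
  have hm1 : m ≠ 0 := by
    have := le_max_right m₀ 1
    omega
  have hcop : ∀ a, Nat.Coprime (1 + p ^ m * a) p := by
    intro a
    obtain ⟨m', rfl⟩ := Nat.exists_eq_succ_of_ne_zero hm1
    rw [Nat.coprime_comm, Nat.succ_eq_add_one, pow_succ, mul_assoc, mul_comm p a, ← mul_assoc,
      Nat.coprime_add_mul_right_right]
    exact Nat.coprime_one_right p
  have hσ : ∀ a : ℕ, ∃ s : C →ₐ[K] C, (∀ z, ‖s z‖ ≤ ‖z‖) ∧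
      s (j (ζ (m + k))) = j (ζ (m + k)) ^ (1 + p ^ m * a) ∧
      ‖(α (1 + p ^ m * a) : C) * s x - β (1 + p ^ m * a) * x‖ ≤ ‖(p : Ω)‖ ^ (m + k) * ‖x‖ := by
    intro a
    obtain ⟨σ, hσ⟩ := exists_aut (K := K) (C := Ω) hpK hval (hζ (m + k)) (hcop a)
    obtain ⟨s, hs1, hs2, hs3⟩ := hx σ
    refine ⟨{ s with commutes' := fun r => ?_ }, hs1, ?_, hs3 _ _ hσ⟩
    · change s (j (algebraMap K Ω r)) = j (algebraMap K Ω r)
      rw [hs2, AlgEquiv.commutes]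
    · change s (j (ζ (m + k))) = _
      rw [hs2, hσ, map_pow]
  choose s hs1 hs2 hs3 using hσ
  refine ⟨α (1 + p ^ m), β (1 + p ^ m), s, hs1, fun a _ => hs2 a, ?_, ?_⟩
  · rw [hpC, hintC]
    exact hαβ m ((le_max_left _ _).trans hm)
  · have := hs3 1
    rw [mul_one] at this
    rw [hpC]
    exact this

/-- No invariants in `C(-1)`: `s x = χ(s) x` for all `s` forces `x = 0`. -/
theorem eq_zero_of_chi (hK : ∀ x : K, ‖algebraMap K Ω x‖ = ‖x‖) (hpK : ‖(p : Ω)‖ < 1)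
    (hval : ∀ x : K, x ≠ 0 → ∃ n : ℤ, ‖x‖ = ‖(p : Ω)‖ ^ n)
    (hinv : ∀ (σ : Ω ≃ₐ[K] Ω) (x : Ω), ‖σ x‖ = ‖x‖)
    (j : Ω →+* C) (hj : ∀ x, ‖j x‖ = ‖x‖) (hd : DenseRange j)
    (ζ : ℕ → Ω) (hζ : ∀ n, IsPrimitiveRoot (ζ n) (p ^ n)) (hζ' : ∀ n, ζ (n + 1) ^ p = ζ n) (x : C)
    (hx : ∀ σ : Ω ≃ₐ[K] Ω, ∃ s : C →+* C, (∀ y, ‖s y‖ ≤ ‖y‖) ∧ (∀ y, s (j y) = j (σ y)) ∧
      ∀ n a : ℕ, σ (ζ n) = ζ n ^ a → ‖s x - a * x‖ ≤ ‖(p : Ω)‖ ^ n * ‖x‖) : x = 0 := by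
  refine main hK hpK hval hinv j hj hd ζ hζ hζ' (fun _ => 1) (fun a => a) rfl rfl 0 0 (fun m _ => ?_) x fun σ => ?_
  · rw [add_zero, ← norm_pow]
    push_cast
    rw [sub_add_cancel_left, norm_neg]
  · obtain ⟨s, h1, h2, h3⟩ := hx σ
    refine ⟨s, h1, h2, fun n a ha => ?_⟩
    have := h3 n a ha
    push_cast
    rw [one_mul]
    exact this

/-- No invariants in `C(1)`: `χ(s) s x = x` for all `s` forces `x = 0`. -/
theorem eq_zero_of_chi_inv (hK : ∀ x : K, ‖algebraMap K Ω x‖ = ‖x‖) (hpK : ‖(p : Ω)‖ < 1)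
    (hval : ∀ x : K, x ≠ 0 → ∃ n : ℤ, ‖x‖ = ‖(p : Ω)‖ ^ n)
    (hinv : ∀ (σ : Ω ≃ₐ[K] Ω) (x : Ω), ‖σ x‖ = ‖x‖)
    (j : Ω →+* C) (hj : ∀ x, ‖j x‖ = ‖x‖) (hd : DenseRange j)
    (ζ : ℕ → Ω) (hζ : ∀ n, IsPrimitiveRoot (ζ n) (p ^ n)) (hζ' : ∀ n, ζ (n + 1) ^ p = ζ n) (x : C)
    (hx : ∀ σ : Ω ≃ₐ[K] Ω, ∃ s : C →+* C, (∀ y, ‖s y‖ ≤ ‖y‖) ∧ (∀ y, s (j y) = j (σ y)) ∧
      ∀ n a : ℕ, σ (ζ n) = ζ n ^ a → ‖a * s x - x‖ ≤ ‖(p : Ω)‖ ^ n * ‖x‖) : x = 0 := by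
  refine main hK hpK hval hinv j hj hd ζ hζ hζ' (fun a => a) (fun _ => 1) rfl rfl 0 0 (fun m _ => ?_) x fun σ => ?_
  · rw [add_zero, ← norm_pow]
    push_cast
    rw [add_sub_cancel_left]
  · obtain ⟨s, h1, h2, h3⟩ := hx σ
    refine ⟨s, h1, h2, fun n a ha => ?_⟩
    have := h3 n a ha
    push_cast
    rw [one_mul]
    exact this

end K852.CycGal
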