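import Groth.Agent.CalgA.CoeffRing
import Groth.Agent.CalgA.FinitePow
import Mathlib.Analysis.Normed.Field.Basic
import Mathlib.RingTheory.DiscreteValuationRing.Basic
import Mathlib.RingTheory.Localization.FractionRing
import Mathlib.RingTheory.LocalRing.ResidueField.Basic

/-!
# A complete discrete valuation ring of characteristic `(0,p)` is finite over an unramified one
-/

set_option autoImplicit false
universe u

open IsLocalRing

namespace K852.BaseW

/-- The unramified base. -/
theorem exists_base (R : Type u) [CommRing R] [IsDomain R] [IsDiscreteValuationRing R] [CharZero R]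
    [IsAdicComplete (maximalIdeal R) R] (p : ℕ) [Fact p.Prime] (hp : (p : R) ∈ maximalIdeal R) :
    ∃ (R₀ : Type u) (_ : CommRing R₀) (_ : IsDomain R₀) (_ : IsDiscreteValuationRing R₀) (_ : Algebra R₀ R),
      IsAdicComplete (maximalIdeal R₀) R₀ ∧ maximalIdeal R₀ = Ideal.span {(p : R₀)} ∧
      Function.Injective (algebraMap R₀ R) ∧ Module.Finite R₀ R ∧
      Function.Surjective ((residue R).comp (algebraMap R₀ R)) := by
  have hchar : CharP (ResidueField R) p := by
    have h1 : ((p : ℕ) : ResidueField R) = 0 := by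
      rw [← map_natCast (residue R), residue_eq_zero_iff]
      exact hp
    obtain ⟨q, hq⟩ := CharP.exists (ResidueField R)
    have h2 : q ∣ p := (CharP.cast_eq_zero_iff (ResidueField R) q p).1 h1
    rcases (Nat.dvd_prime Fact.out).1 h2 with h3 | h3
    · subst h3
      exact absurd ((Nat.cast_one (R := ResidueField R)).symm.trans (CharP.cast_eq_zero (ResidueField R) 1)) one_ne_zero
    · rwa [h3] at hq
  obtain ⟨Λ, i1, i2, i3, g, hcomp, hmax, hres⟩ :=
    Groth.Agent.CalgA.CoeffRing.exists_cohenRing_map p R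
  let _ : Algebra Λ R := g.toAlgebra
  have hp0 : (p : R) ≠ 0 := Nat.cast_ne_zero.2 (Fact.out : p.Prime).ne_zero
  have hmap : (maximalIdeal Λ).map g = Ideal.span {(p : R)} := by
    rw [hmax, Ideal.map_span, Set.image_singleton, map_natCast]
  have hloc : (maximalIdeal Λ).map g ≤ maximalIdeal R := by
    rw [hmap, Ideal.span_singleton_le_iff_mem]
    exact hp
  refine ⟨Λ, i1, i2, i3, g.toAlgebra, hcomp, hmax, ?_, ?_, hres⟩
  · change Function.Injective g
    rw [injective_iff_map_eq_zero]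
    intro x hx
    by_contra hx0
    obtain ⟨n, u, hu⟩ := IsDiscreteValuationRing.eq_unit_mul_pow_irreducible hx0
      (ϖ := (p : Λ)) ((IsDiscreteValuationRing.irreducible_iff_uniformizer _).2 hmax)
    rw [hu, map_mul, map_pow, map_natCast] at hx
    rcases mul_eq_zero.1 hx with h1 | h1
    · exact (u.isUnit.map g).ne_zero h1
    · exact hp0 ((pow_eq_zero_iff (n := n) (fun hn => by rw [hn, pow_zero] at h1; exact one_ne_zero h1)).1 h1)
  · have hcomp' : IsPrecomplete (maximalIdeal Λ) Λ := hcomp.toIsPrecomplete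
    have hfin := Groth.Agent.CalgA.FinitePow.finite_powEval (Λ := Λ) (R := R) hres hloc (n := 0) Fin.elim0
      (fun i => i.elim0) (by
        rw [Set.range_eq_empty, Ideal.span_empty, sup_bot_eq]
        change maximalIdeal R ≤ ((maximalIdeal Λ).map g).radical
        rw [hmap]
        have h1 : (Ideal.span {(p : R)}).radical = maximalIdeal R := by
          obtain ⟨ϖ, hϖ⟩ := IsDiscreteValuationRing.exists_irreducible R
          obtain ⟨n, u, hn⟩ := IsDiscreteValuationRing.eq_unit_mul_pow_irreducible hp0 hϖ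
          have hmR : maximalIdeal R = Ideal.span {ϖ} := (IsDiscreteValuationRing.irreducible_iff_uniformizer _).1 hϖ
          apply le_antisymm
          · refine (Ideal.radical_mono ?_).trans (le_of_eq (maximalIdeal.isMaximal R).isPrime.radical)
            rwa [Ideal.span_singleton_le_iff_mem]
          · rw [hmR, Ideal.span_singleton_le_iff_mem]
            refine ⟨n, Ideal.mem_span_singleton.2 ?_⟩
            rw [hn]
            exact (Units.mul_left_dvd).2 dvd_rfl
        rw [h1])
    have hC : Function.Surjective (MvPowerSeries.C : Λ →+* MvPowerSeries (Fin 0) Λ) := by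
      intro y
      refine ⟨MvPowerSeries.constantCoeff y, ?_⟩
      apply MvPowerSeries.ext
      intro m
      have hm : m = 0 := Subsingleton.elim _ _
      rw [hm, MvPowerSeries.coeff_zero_C]
      rfl
    have h2 : ((Groth.Agent.Ega41.PowEval.powEval (R := Λ) (maximalIdeal R) (Fin.elim0 : Fin 0 → R)
      (fun i => i.elim0)).toRingHom.comp (MvPowerSeries.C)).Finite :=
      hfin.comp (RingHom.Finite.of_surjective _ hC)
    have h3 : ((Groth.Agent.Ega41.PowEval.powEval (R := Λ) (maximalIdeal R) (Fin.elim0 : Fin 0 → R)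
      (fun i => i.elim0)).toRingHom.comp (MvPowerSeries.C)) = g := by
      apply RingHom.ext
      intro a
      exact Groth.Agent.Ega41.PowEval.powEval_C _ _ _ _
    rw [h3] at h2
    exact h2

/-- Norms on the fraction field of the unramified base. -/
theorem norm_eq {R₀ K₀ Ω : Type*} [CommRing R₀] [IsDomain R₀] [IsDiscreteValuationRing R₀] {p : ℕ}
    (hmax : maximalIdeal R₀ = Ideal.span {(p : R₀)}) [Field K₀] [Algebra R₀ K₀] [IsFractionRing R₀ K₀]
    [NormedField Ω] (f : K₀ →+* Ω) (h1 : ∀ r : R₀, ‖f (algebraMap R₀ K₀ r)‖ ≤ 1) (x : K₀) (hx : x ≠ 0) :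
    ∃ n : ℤ, ‖f x‖ = ‖(p : Ω)‖ ^ n := by
  have hirr : Irreducible (p : R₀) := (IsDiscreteValuationRing.irreducible_iff_uniformizer _).2 hmax
  have hu : ∀ u : R₀ˣ, ‖f (algebraMap R₀ K₀ u)‖ = 1 := by
    intro u
    apply le_antisymm (h1 u)
    have h2 := h1 (u⁻¹ : R₀ˣ)
    have h3 : f (algebraMap R₀ K₀ u) * f (algebraMap R₀ K₀ ((u⁻¹ : R₀ˣ) : R₀)) = 1 := by
      rw [← map_mul, ← map_mul, Units.mul_inv, map_one, map_one]
    have h4 : ‖f (algebraMap R₀ K₀ u)‖ * ‖f (algebraMap R₀ K₀ ((u⁻¹ : R₀ˣ) : R₀))‖ = 1 := by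
      rw [← norm_mul, h3, norm_one]
    by_contra h5
    rw [not_le] at h5
    have h6 : ‖f (algebraMap R₀ K₀ u)‖ * ‖f (algebraMap R₀ K₀ ((u⁻¹ : R₀ˣ) : R₀))‖ ≤ ‖f (algebraMap R₀ K₀ u)‖ * 1 :=
      mul_le_mul_of_nonneg_left h2 (norm_nonneg _)
    rw [h4, mul_one] at h6
    exact absurd h5 (not_lt.2 h6)
  have hnat : ∀ r : R₀, r ≠ 0 → ∃ n : ℕ, ‖f (algebraMap R₀ K₀ r)‖ = ‖(p : Ω)‖ ^ n := by
    intro r hr
    obtain ⟨n, u, hru⟩ := IsDiscreteValuationRing.eq_unit_mul_pow_irreducible hr hirr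
    refine ⟨n, ?_⟩
    rw [hru, map_mul, map_mul, norm_mul, hu, one_mul, map_pow, map_pow, map_natCast, map_natCast, norm_pow]
  obtain ⟨a, b, hb, rfl⟩ := IsFractionRing.div_surjective (A := R₀) x
  have hb0 : b ≠ 0 := nonZeroDivisors.ne_zero hb
  have ha0 : a ≠ 0 := by
    rintro rfl
    exact hx (by rw [map_zero, zero_div])
  obtain ⟨n, hn⟩ := hnat a ha0
  obtain ⟨m, hm⟩ := hnat b hb0
  refine ⟨(n : ℤ) - m, ?_⟩
  have hp0 : ‖(p : Ω)‖ ≠ 0 := by
    rw [norm_ne_zero_iff]
    have h7 : f (algebraMap R₀ K₀ (p : R₀)) ≠ 0 := by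
      rw [map_ne_zero]
      exact fun h => hirr.ne_zero ((IsFractionRing.injective R₀ K₀) (by rw [h, map_zero]))
    rwa [map_natCast, map_natCast] at h7
  rw [map_div₀, norm_div, hn, hm, zpow_sub₀ hp0, zpow_natCast, zpow_natCast]

end K852.BaseW
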