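import Mathlib.Analysis.Normed.Field.Ultra
import Mathlib.Analysis.Normed.Ring.Ultra
import Mathlib.Analysis.Normed.Group.Ultra
import Mathlib.Analysis.Normed.Module.Basic
import Mathlib.RingTheory.Polynomial.Cyclotomic.Eval
import Mathlib.RingTheory.Polynomial.Cyclotomic.Roots
import Mathlib.RingTheory.RootsOfUnity.Basic

/-!
# Cyclotomic towers over unramified `p`-adic fields: no invariants in the twists of the completion
-/

set_option autoImplicit false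

open Polynomial

namespace K852.Cyc

section Basic

variable {C : Type*} [NormedField C] [IsUltrametricDist C]

theorem norm_sum_le {ι : Type*} (s : Finset ι) (f : ι → C) {B : ℝ} (hB : 0 ≤ B) (h : ∀ i ∈ s, ‖f i‖ ≤ B) :
    ‖∑ i ∈ s, f i‖ ≤ B := by
  classical
  induction s using Finset.induction_on with
  | empty => simpa using hB
  | insert i s hi ih =>
    rw [Finset.sum_insert hi]
    refine (IsUltrametricDist.norm_add_le_max _ _).trans (max_le (h i (Finset.mem_insert_self _ _)) ?_)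
    exact ih fun j hj => h j (Finset.mem_insert_of_mem hj)

theorem norm_natCast_le (n : ℕ) : ‖(n : C)‖ ≤ 1 := IsUltrametricDist.norm_natCast_le_one C n

theorem norm_intCast_le (n : ℤ) : ‖(n : C)‖ ≤ 1 := IsUltrametricDist.norm_intCast_le_one C n

theorem norm_sub_le (x y : C) : ‖x - y‖ ≤ max ‖x‖ ‖y‖ := by
  rw [sub_eq_add_neg, ← norm_neg y]
  exact IsUltrametricDist.norm_add_le_max _ _

/-- In a sum whose nonzero terms have pairwise distinct norms every term is bounded by the sum. -/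
theorem norm_le_norm_sum {ι : Type*} (s : Finset ι) (f : ι → C)
    (h : ∀ i ∈ s, ∀ j ∈ s, f i ≠ 0 → ‖f i‖ = ‖f j‖ → i = j) {i : ι} (hi : i ∈ s) : ‖f i‖ ≤ ‖∑ j ∈ s, f j‖ := by
  classical
  obtain ⟨m, hm, hmax⟩ := Finset.exists_max_image s (fun j => ‖f j‖) ⟨i, hi⟩
  by_cases h0 : f m = 0
  · have h1 : f i = 0 := by
      have := hmax i hi
      rw [h0, norm_zero] at this
      exact norm_le_zero_iff.1 this
    rw [h1, norm_zero]
    exact norm_nonneg _
  · refine (hmax i hi).trans ?_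
    rw [← Finset.add_sum_erase s f hm]
    have h2 : ‖∑ j ∈ s.erase m, f j‖ < ‖f m‖ ∨ ∑ j ∈ s.erase m, f j = 0 := by
      by_cases he : (s.erase m).Nonempty
      · left
        obtain ⟨l, hl, hlmax⟩ := Finset.exists_max_image (s.erase m) (fun j => ‖f j‖) he
        refine (norm_sum_le (s.erase m) f (norm_nonneg (f l)) hlmax).trans_lt ?_
        refine lt_of_le_of_ne (hmax l (Finset.mem_of_mem_erase hl)) fun e => ?_
        exact Finset.ne_of_mem_erase hl (h m hm l (Finset.mem_of_mem_erase hl) h0 e.symm).symm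
      · right
        rw [Finset.not_nonempty_iff_eq_empty.1 he, Finset.sum_empty]
    rcases h2 with h2 | h2
    · rw [IsUltrametricDist.norm_add_eq_max_of_norm_ne_norm h2.ne']
      exact le_max_left _ _
    · rw [h2, add_zero]

omit [IsUltrametricDist C] in
theorem norm_root {ζ : C} {n : ℕ} (hn : n ≠ 0) (h : ζ ^ n = 1) : ‖ζ‖ = 1 := by
  have h1 : ‖ζ‖ ^ n = 1 := by rw [← norm_pow, h, norm_one]
  exact (pow_eq_one_iff_of_nonneg (norm_nonneg _) hn).1 h1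

theorem norm_pow_sub_one_le {ζ : C} (h : ‖ζ‖ = 1) (a : ℕ) : ‖ζ ^ a - 1‖ ≤ ‖ζ - 1‖ := by
  rw [← mul_geom_sum ζ a, norm_mul]
  refine mul_le_of_le_one_right (norm_nonneg _) ?_
  refine norm_sum_le _ _ zero_le_one fun i _ => ?_
  rw [norm_pow, h, one_pow]

variable {p : ℕ} [hp : Fact p.Prime]

/-- The norm of `ζ - 1`. -/
theorem norm_sub_one_pow {ζ : C} {n : ℕ} (hn : n ≠ 0) (h : IsPrimitiveRoot ζ (p ^ n)) :
    ‖ζ - 1‖ ^ (p ^ n).totient = ‖(p : C)‖ := by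
  obtain ⟨k, rfl⟩ := Nat.exists_eq_succ_of_ne_zero hn
  have h1 : eval 1 (cyclotomic (p ^ (k + 1)) C) = p := eval_one_cyclotomic_prime_pow k
  have hpos : p ^ (k + 1) ≠ 0 := pow_ne_zero _ hp.1.ne_zero
  rw [cyclotomic_eq_prod_X_sub_primitiveRoots h, eval_prod] at h1
  rw [← h1, norm_prod, ← h.card_primitiveRoots, ← Finset.prod_const]
  refine Finset.prod_congr rfl fun μ hμ => ?_
  have hμ' : IsPrimitiveRoot μ (p ^ (k + 1)) := isPrimitiveRoot_of_mem_primitiveRoots hμ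
  rw [eval_sub, eval_X, eval_C, ← norm_neg, neg_sub, ← norm_neg (1 - μ), neg_sub]
  have hz : ‖ζ‖ = 1 := norm_root hpos h.pow_eq_one
  have hm : ‖μ‖ = 1 := norm_root hpos hμ'.pow_eq_one
  rw [← norm_neg (1 - ζ), neg_sub]
  apply le_antisymm
  · obtain ⟨i, -, hi⟩ := hμ'.eq_pow_of_pow_eq_one h.pow_eq_one
    rw [← hi]
    exact norm_pow_sub_one_le hm i
  · obtain ⟨i, -, hi⟩ := h.eq_pow_of_pow_eq_one hμ'.pow_eq_one
    rw [← hi]
    exact norm_pow_sub_one_le hz i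

end Basic

section Tower

variable {p : ℕ} [hp : Fact p.Prime] {K C : Type*} [NormedField K] [NormedField C] [NormedAlgebra K C]
  [IsUltrametricDist C] [CharZero C]

omit [IsUltrametricDist C] in
theorem norm_p_pos : 0 < ‖(p : C)‖ := norm_pos_iff.2 (Nat.cast_ne_zero.2 hp.1.ne_zero)

theorem totient_pos (n : ℕ) : 0 < (p ^ n).totient := Nat.totient_pos.2 (pow_pos hp.1.pos n)

/-- The terms of a combination of powers of `ζ - 1` are bounded by the sum. -/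
theorem orth (hp1 : ‖(p : C)‖ < 1) (hK : ∀ x : K, x ≠ 0 → ∃ n : ℤ, ‖x‖ = ‖(p : C)‖ ^ n)
    {n : ℕ} (hn : n ≠ 0) {ζ : C} (h : IsPrimitiveRoot ζ (p ^ n)) (c : ℕ → K) {i : ℕ}
    (hi : i < (p ^ n).totient) :
    ‖algebraMap K C (c i) * (ζ - 1) ^ i‖ ≤
      ‖∑ j ∈ Finset.range (p ^ n).totient, algebraMap K C (c j) * (ζ - 1) ^ j‖ := by
  have hφ := norm_sub_one_pow (C := C) hn h
  set φ := (p ^ n).totient with hφdef
  set r := ‖ζ - 1‖ with hr
  have hφ0 : φ ≠ 0 := (totient_pos n).ne'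
  have hr0 : 0 < r := by
    rcases (norm_nonneg (ζ - 1)).lt_or_eq with h1 | h1
    · exact h1
    · exfalso
      rw [← hr] at h1
      rw [← h1, zero_pow hφ0] at hφ
      exact (norm_p_pos (p := p) (C := C)).ne hφ
  have hr1 : r < 1 := by
    by_contra h1
    have h2 : 1 ≤ r ^ φ := one_le_pow₀ (not_lt.1 h1)
    rw [hφ] at h2
    exact absurd h2 (not_le.2 hp1)
  refine norm_le_norm_sum (Finset.range φ) (fun j => algebraMap K C (c j) * (ζ - 1) ^ j) ?_ (Finset.mem_range.2 hi)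
  intro a ha b hb h0 hab
  rw [Finset.mem_range] at ha hb
  have hval : ∀ j, c j ≠ 0 → ∃ m : ℤ, ‖algebraMap K C (c j) * (ζ - 1) ^ j‖ = r ^ ((φ : ℤ) * m + j) := by
    intro j hj
    obtain ⟨m, hm⟩ := hK (c j) hj
    refine ⟨m, ?_⟩
    rw [norm_mul, norm_algebraMap', hm, norm_pow, ← hr, ← hφ, zpow_add₀ hr0.ne', zpow_natCast, zpow_mul, zpow_natCast]
  have ha0 : c a ≠ 0 := by
    intro e
    exact h0 (by simp only [e, map_zero, zero_mul])
  have hb0 : c b ≠ 0 := by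
    intro e
    apply h0
    rw [← norm_eq_zero]
    refine hab.trans ?_
    simp only [e, map_zero, zero_mul, norm_zero]
  obtain ⟨m, hm⟩ := hval a ha0
  obtain ⟨m', hm'⟩ := hval b hb0
  have h1 : r ^ ((φ : ℤ) * m + a) = r ^ ((φ : ℤ) * m' + b) := by rw [← hm, ← hm']; exact hab
  have h2 : (φ : ℤ) * m + a = (φ : ℤ) * m' + b := zpow_right_injective₀ hr0 hr1.ne h1
  have h3 : (φ : ℤ) ∣ (a : ℤ) - b := ⟨m' - m, by linarith⟩
  have h4 : (a : ℤ) - b = 0 := by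
    apply Int.eq_zero_of_abs_lt_dvd h3
    rw [abs_lt]
    constructor <;> omega
  omega

omit [IsUltrametricDist C] in
/-- Elements of `K[ζ]` are combinations of the first `φ(p^n)` powers of `ζ - 1`. -/
theorem exists_coeff {n : ℕ} {ζ : C} (h : IsPrimitiveRoot ζ (p ^ n)) {y : C}
    (hy : y ∈ Algebra.adjoin K ({ζ} : Set C)) :
    ∃ c : ℕ → K, y = ∑ j ∈ Finset.range (p ^ n).totient, algebraMap K C (c j) * (ζ - 1) ^ j := by
  have hy1 : y ∈ Algebra.adjoin K ({ζ - 1} : Set C) := by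
    have h1 : Algebra.adjoin K ({ζ} : Set C) ≤ Algebra.adjoin K ({ζ - 1} : Set C) := by
      rw [Algebra.adjoin_le_iff, Set.singleton_subset_iff]
      have h2 := (Algebra.adjoin K ({ζ - 1} : Set C)).add_mem (Algebra.subset_adjoin (Set.mem_singleton _))
        (one_mem _)
      rwa [sub_add_cancel] at h2
    exact h1 hy
  rw [Algebra.adjoin_singleton_eq_range_aeval] at hy1
  obtain ⟨f, rfl⟩ := hy1
  -- a monic polynomial of degree `φ(p^n)` killing `ζ - 1`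
  let g : K[X] := (cyclotomic (p ^ n) K).comp (X + Polynomial.C (1 : K))
  have hgm : g.Monic := (cyclotomic.monic _ K).comp_X_add_C 1
  have hgd : g.natDegree = (p ^ n).totient := by
    rw [natDegree_comp, natDegree_X_add_C, mul_one, natDegree_cyclotomic]
  have hg0 : aeval (ζ - 1) g = 0 := by
    rw [aeval_comp]
    have h3 : aeval (ζ - 1) (X + Polynomial.C (1 : K)) = ζ := by simp
    rw [h3, ← eval_map_algebraMap, map_cyclotomic]
    exact (isRoot_cyclotomic_iff (R := C)).2 h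
  refine ⟨fun j => (f %ₘ g).coeff j, ?_⟩
  have h4 : aeval (ζ - 1) f = aeval (ζ - 1) (f %ₘ g) := by
    conv_lhs => rw [← modByMonic_add_div f g]
    rw [map_add, map_mul, hg0, zero_mul, add_zero]
  change aeval (ζ - 1) f = _
  rw [h4, aeval_eq_sum_range' (n := (p ^ n).totient)]
  · refine Finset.sum_congr rfl fun j _ => ?_
    rw [Algebra.smul_def]
  · rw [← hgd]
    by_cases h5 : g = 1
    · exfalso
      rw [h5, natDegree_one] at hgd
      exact (totient_pos (p := p) n).ne hgd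
    · exact natDegree_modByMonic_lt f hgm h5

omit hp [IsUltrametricDist C] [CharZero C] in
theorem root_pow (ζ : ℕ → C) (h : ∀ n, ζ (n + 1) ^ p = ζ n) (m k : ℕ) : ζ (m + k) ^ (p ^ k) = ζ m := by
  induction k with
  | zero => rw [add_zero, pow_zero, pow_one]
  | succ k ih => rw [pow_succ', pow_mul, ← add_assoc, h, ih]

omit hp [IsUltrametricDist C] [CharZero C] in
theorem adjoin_mono (ζ : ℕ → C) (h : ∀ n, ζ (n + 1) ^ p = ζ n) {m n : ℕ} (hmn : m ≤ n) :
    Algebra.adjoin K ({ζ m} : Set C) ≤ Algebra.adjoin K ({ζ n} : Set C) := by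
  obtain ⟨k, rfl⟩ := Nat.exists_eq_add_of_le hmn
  rw [Algebra.adjoin_le_iff, Set.singleton_subset_iff, ← root_pow ζ h m k]
  exact (Algebra.adjoin K ({ζ (m + k)} : Set C)).pow_mem (Algebra.subset_adjoin (Set.mem_singleton _)) _

/-- The normalized trace. -/
noncomputable def T (p : ℕ) (k : ℕ) (s : ℕ → (C →ₐ[K] C)) : C →ₗ[K] C :=
  ((p ^ k : ℕ) : K)⁻¹ • ∑ a ∈ Finset.range (p ^ k), (s a).toLinearMap

omit hp [IsUltrametricDist C] [CharZero C] in
theorem T_apply (k : ℕ) (s : ℕ → (C →ₐ[K] C)) (y : C) :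
    T (K := K) p k s y = ((p ^ k : ℕ) : C)⁻¹ * ∑ a ∈ Finset.range (p ^ k), s a y := by
  rw [T, LinearMap.smul_apply, LinearMap.sum_apply, Algebra.smul_def, map_inv₀, map_natCast]
  rfl

section core

variable (ζ : ℕ → C) (hζ : ∀ n, IsPrimitiveRoot (ζ n) (p ^ n)) (hζ' : ∀ n, ζ (n + 1) ^ p = ζ n)
  {m k : ℕ} {s : ℕ → (C →ₐ[K] C)} (hs : ∀ a < p ^ k, s a (ζ (m + k)) = ζ (m + k) ^ (1 + p ^ m * a))

include hζ hs

omit [IsUltrametricDist C] in
theorem T_pow (l : ℕ) :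
    T (K := K) p k s (ζ (m + k) ^ l) = if p ^ k ∣ l then ζ (m + k) ^ l else 0 := by
  have hpk : ((p ^ k : ℕ) : C) ≠ 0 := Nat.cast_ne_zero.2 (pow_ne_zero _ hp.1.ne_zero)
  rw [T_apply]
  set w : C := ζ (m + k) ^ (p ^ m * l) with hw
  have hwp : w ^ (p ^ k) = 1 := by
    rw [hw, ← pow_mul, mul_right_comm, ← pow_add, pow_mul, (hζ (m + k)).pow_eq_one, one_pow]
  have h1 : ∑ a ∈ Finset.range (p ^ k), s a (ζ (m + k) ^ l) =
      ζ (m + k) ^ l * ∑ a ∈ Finset.range (p ^ k), w ^ a := by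
    rw [Finset.mul_sum]
    refine Finset.sum_congr rfl fun a ha => ?_
    rw [map_pow, hs a (Finset.mem_range.1 ha), ← pow_mul, hw, ← pow_mul, ← pow_add]
    congr 1
    ring
  rw [h1]
  by_cases hl : p ^ k ∣ l
  · rw [if_pos hl]
    have hw1 : w = 1 := by
      obtain ⟨q, rfl⟩ := hl
      rw [hw, ← mul_assoc, ← pow_add, pow_mul, (hζ (m + k)).pow_eq_one, one_pow]
    rw [hw1]
    simp only [one_pow, Finset.sum_const, Finset.card_range, nsmul_eq_mul, mul_one]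
    rw [mul_comm (ζ (m + k) ^ l), ← mul_assoc, inv_mul_cancel₀ hpk, one_mul]
  · rw [if_neg hl]
    have hw1 : w ≠ 1 := by
      intro e
      apply hl
      have h2 := (hζ (m + k)).dvd_of_pow_eq_one _ e
      rw [pow_add] at h2
      exact Nat.dvd_of_mul_dvd_mul_left (pow_pos hp.1.pos m) h2
    have h3 : (w - 1) * ∑ a ∈ Finset.range (p ^ k), w ^ a = 0 := by
      rw [mul_geom_sum, hwp, sub_self]
    rw [(mul_eq_zero.1 h3).resolve_left (sub_ne_zero.2 hw1), mul_zero, mul_zero]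

theorem norm_T_poly_le (f : ℤ[X]) : ‖T (K := K) p k s (aeval (ζ (m + k)) f)‖ ≤ 1 := by
  rw [aeval_eq_sum_range, map_sum]
  refine norm_sum_le _ _ zero_le_one fun i _ => ?_
  have h1 : T (K := K) p k s (f.coeff i • ζ (m + k) ^ i) = f.coeff i • T (K := K) p k s (ζ (m + k) ^ i) :=
    map_zsmul _ _ _
  rw [h1, zsmul_eq_mul, norm_mul]
  refine mul_le_one₀ (norm_intCast_le _) (norm_nonneg _) ?_
  rw [T_pow ζ hζ hs]
  split_ifs
  · rw [norm_pow, norm_root (pow_ne_zero _ hp.1.ne_zero) (hζ (m + k)).pow_eq_one, one_pow]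
  · rw [norm_zero]; exact zero_le_one

/-- The bound of the normalized trace. -/
theorem norm_T_le (hp1 : ‖(p : C)‖ < 1) (hK : ∀ x : K, x ≠ 0 → ∃ n : ℤ, ‖x‖ = ‖(p : C)‖ ^ n) (hmk : m + k ≠ 0)
    {y : C} (hy : y ∈ Algebra.adjoin K ({ζ (m + k)} : Set C)) :
    ‖T (K := K) p k s y‖ ≤ ‖(p : C)‖⁻¹ * ‖y‖ := by
  obtain ⟨c, hc⟩ := exists_coeff (hζ (m + k)) hy
  have h0 := norm_p_pos (p := p) (C := C)
  have hφ := norm_sub_one_pow (C := C) hmk (hζ (m + k))
  set φ := (p ^ (m + k)).totient with hφdef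
  rw [hc, map_sum]
  refine norm_sum_le _ _ (mul_nonneg (inv_nonneg.2 h0.le) (norm_nonneg _)) fun j hj => ?_
  rw [Finset.mem_range] at hj
  have h1 : T (K := K) p k s (algebraMap K C (c j) * (ζ (m + k) - 1) ^ j) =
      algebraMap K C (c j) * T (K := K) p k s (aeval (ζ (m + k)) ((X - 1 : ℤ[X]) ^ j)) := by
    have h5 : aeval (ζ (m + k)) ((X - 1 : ℤ[X]) ^ j) = (ζ (m + k) - 1) ^ j := by
      rw [map_pow, map_sub, aeval_X, map_one]
    rw [h5, ← Algebra.smul_def, map_smul, Algebra.smul_def]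
  rw [h1, norm_mul]
  have h2 := orth hp1 hK hmk (hζ (m + k)) c hj
  rw [← hφdef] at h2
  have h3 : ‖(ζ (m + k) - 1)‖ ≤ 1 := by
    by_contra h4
    have h5 : 1 ≤ ‖ζ (m + k) - 1‖ ^ φ := one_le_pow₀ (not_le.1 h4).le
    rw [hφ] at h5
    exact absurd hp1 (not_lt.2 h5)
  have h4 : ‖(p : C)‖ ≤ ‖(ζ (m + k) - 1) ^ j‖ := by
    rw [norm_pow, ← hφ]
    exact pow_le_pow_of_le_one (norm_nonneg _) h3 hj.le
  calc ‖algebraMap K C (c j)‖ * ‖T (K := K) p k s (aeval (ζ (m + k)) ((X - 1 : ℤ[X]) ^ j))‖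
      ≤ ‖algebraMap K C (c j)‖ * 1 := mul_le_mul_of_nonneg_left (norm_T_poly_le ζ hζ hs _) (norm_nonneg _)
    _ = ‖(p : C)‖⁻¹ * (‖algebraMap K C (c j)‖ * ‖(p : C)‖) := by
        rw [mul_one, mul_comm _ ‖(p : C)‖, ← mul_assoc, inv_mul_cancel₀ h0.ne', one_mul]
    _ ≤ ‖(p : C)‖⁻¹ * (‖algebraMap K C (c j)‖ * ‖(ζ (m + k) - 1) ^ j‖) :=
        mul_le_mul_of_nonneg_left (mul_le_mul_of_nonneg_left h4 (norm_nonneg _)) (inv_nonneg.2 h0.le)
    _ ≤ _ := by
        rw [← norm_mul]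
        exact mul_le_mul_of_nonneg_left h2 (inv_nonneg.2 h0.le)

/-- The normalized trace is invariant under `s 1`. -/
theorem T_comp (hm : m ≠ 0) (hk : 1 ≤ k) {y : C} (hy : y ∈ Algebra.adjoin K ({ζ (m + k)} : Set C)) :
    T (K := K) p k s (s 1 y) = T (K := K) p k s y := by
  rw [Algebra.adjoin_singleton_eq_range_aeval] at hy
  obtain ⟨f, rfl⟩ := hy
  change T (K := K) p k s (s 1 (aeval (ζ (m + k)) f)) = T (K := K) p k s (aeval (ζ (m + k)) f)
  have h1 : 1 < p ^ k := Nat.one_lt_pow (by omega) hp.1.one_lt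
  rw [← Polynomial.aeval_algHom_apply, hs 1 h1, aeval_eq_sum_range, aeval_eq_sum_range, map_sum, map_sum]
  refine Finset.sum_congr rfl fun l _ => ?_
  rw [map_smul, map_smul]
  congr 1
  rw [← pow_mul, T_pow ζ hζ hs, T_pow ζ hζ hs]
  have h2 : p ^ k ∣ (1 + p ^ m * 1) * l ↔ p ^ k ∣ l := by
    refine ⟨fun h => ?_, fun h => h.mul_left _⟩
    refine Nat.Coprime.dvd_of_dvd_mul_left ?_ h
    apply Nat.Coprime.pow_left
    rw [Nat.coprime_iff_isRelPrime, ← Nat.coprime_iff_isRelPrime, mul_one]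
    obtain ⟨m', rfl⟩ := Nat.exists_eq_succ_of_ne_zero hm
    rw [Nat.succ_eq_add_one, pow_succ, Nat.coprime_add_mul_right_right]
    exact Nat.coprime_one_right p
  by_cases hl : p ^ k ∣ l
  · rw [if_pos hl, if_pos (h2.2 hl)]
    obtain ⟨q, rfl⟩ := hl
    have e : (1 + p ^ m * 1) * (p ^ k * q) = p ^ k * q + p ^ (m + k) * q := by rw [pow_add]; ring
    rw [e, pow_add _ (p ^ k * q), pow_mul _ (p ^ (m + k)), (hζ (m + k)).pow_eq_one, one_pow, mul_one]
  · rw [if_neg hl, if_neg (fun h => hl (h2.1 h))]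

include hζ' in
/-- The normalized trace is the identity on `K[ζ m]`. -/
theorem T_eq {y : C} (hy : y ∈ Algebra.adjoin K ({ζ m} : Set C)) : T (K := K) p k s y = y := by
  rw [Algebra.adjoin_singleton_eq_range_aeval] at hy
  obtain ⟨f, rfl⟩ := hy
  change T (K := K) p k s (aeval (ζ m) f) = aeval (ζ m) f
  rw [aeval_eq_sum_range, map_sum]
  refine Finset.sum_congr rfl fun l _ => ?_
  rw [map_smul]
  congr 1
  rw [← root_pow ζ hζ' m k, ← pow_mul, T_pow ζ hζ hs, if_pos (dvd_mul_right _ _)]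

end core

/-- **Core statement.** An element `x` of the closure of `K(ζ n, n ≥ 0)` on which suitable lifts of the elements
`1 + p^m a` act approximately through a nontrivial character is zero. -/
theorem core (hp1 : ‖(p : C)‖ < 1) (hK : ∀ x : K, x ≠ 0 → ∃ n : ℤ, ‖x‖ = ‖(p : C)‖ ^ n)
    (ζ : ℕ → C) (hζ : ∀ n, IsPrimitiveRoot (ζ n) (p ^ n)) (hζ' : ∀ n, ζ (n + 1) ^ p = ζ n) (e m₀ : ℕ) (x : C)
    (hx : ∀ ε : ℝ, 0 < ε → ∃ n, ∃ y ∈ Algebra.adjoin K ({ζ n} : Set C), ‖x - y‖ < ε)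
    (h : ∀ m k, m₀ ≤ m → 1 ≤ k → ∃ (α β : ℤ) (s : ℕ → (C →ₐ[K] C)), (∀ a z, ‖s a z‖ ≤ ‖z‖) ∧
      (∀ a < p ^ k, s a (ζ (m + k)) = ζ (m + k) ^ (1 + p ^ m * a)) ∧ ‖(p : C)‖ ^ (m + e) ≤ ‖((α - β : ℤ) : C)‖ ∧
      ‖(α : C) * s 1 x - β * x‖ ≤ ‖(p : C)‖ ^ (m + k) * ‖x‖) : x = 0 := by
  by_contra hx0
  have hx1 : 0 < ‖x‖ := norm_pos_iff.2 hx0
  have h0 := norm_p_pos (p := p) (C := C)
  -- a first approximation
  obtain ⟨m₁, y₁, hy₁, hxy₁⟩ := hx (‖(p : C)‖ ^ 2 * ‖x‖) (by positivity)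
  set m := max m₁ (max m₀ 1) with hm
  have hm1 : m ≠ 0 := by
    have : 1 ≤ m := le_max_of_le_right (le_max_right _ _)
    omega
  have hy₁m : y₁ ∈ Algebra.adjoin K ({ζ m} : Set C) := adjoin_mono ζ hζ' (le_max_left _ _) hy₁
  -- a second approximation
  obtain ⟨n₁, y, hy, hxy⟩ := hx (‖(p : C)‖ ^ (m + e + 3) * ‖x‖) (by positivity)
  set k := max n₁ (e + 3) with hk
  have hk1 : 1 ≤ k := le_trans (by omega) (le_max_right n₁ (e + 3))
  have hyk : y ∈ Algebra.adjoin K ({ζ (m + k)} : Set C) :=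
    adjoin_mono ζ hζ' ((le_max_left n₁ (e + 3)).trans (Nat.le_add_left _ _)) hy
  obtain ⟨α, β, s, hs1, hs, hαβ, hsx⟩ := h m k (le_max_of_le_right (le_max_left _ _)) hk1
  have hmk : m + k ≠ 0 := by omega
  have hpk : 1 < p ^ k := Nat.one_lt_pow (by omega) hp.1.one_lt
  set F := T (K := K) p k s with hF
  have hsmem : ∀ z ∈ Algebra.adjoin K ({ζ (m + k)} : Set C), s 1 z ∈ Algebra.adjoin K ({ζ (m + k)} : Set C) := by
    intro z hz
    rw [Algebra.adjoin_singleton_eq_range_aeval] at hz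
    obtain ⟨f, rfl⟩ := hz
    change s 1 (aeval (ζ (m + k)) f) ∈ _
    rw [← Polynomial.aeval_algHom_apply, hs 1 hpk]
    have h1 : Algebra.adjoin K ({ζ (m + k) ^ (1 + p ^ m * 1)} : Set C) ≤ Algebra.adjoin K ({ζ (m + k)} : Set C) := by
      rw [Algebra.adjoin_le_iff, Set.singleton_subset_iff]
      exact (Algebra.adjoin K ({ζ (m + k)} : Set C)).pow_mem (Algebra.subset_adjoin (Set.mem_singleton _)) _
    exact h1 (Polynomial.aeval_mem_adjoin_singleton K _)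
  have hintmem : ∀ (a : ℤ), ∀ z ∈ Algebra.adjoin K ({ζ (m + k)} : Set C),
      (a : C) * z ∈ Algebra.adjoin K ({ζ (m + k)} : Set C) := by
    intro a z hz
    exact Subalgebra.mul_mem _ (intCast_mem _ a) hz
  have hFint : ∀ (a : ℤ) (z : C), F ((a : C) * z) = (a : C) * F z := by
    intro a z
    rw [← zsmul_eq_mul, map_zsmul, zsmul_eq_mul]
  have hpmono : ∀ {a b : ℕ}, a ≤ b → ‖(p : C)‖ ^ b ≤ ‖(p : C)‖ ^ a := fun hab =>
    pow_le_pow_of_le_one h0.le hp1.le hab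
  -- the approximate eigenvector equation for `y`
  have hz : ‖(α : C) * s 1 y - β * y‖ ≤ ‖(p : C)‖ ^ (m + e + 3) * ‖x‖ := by
    have e1 : (α : C) * s 1 y - β * y = ((α : C) * s 1 x - β * x) - ((α : C) * s 1 (x - y) - β * (x - y)) := by
      rw [map_sub]; ring
    rw [e1]
    refine (norm_sub_le _ _).trans (max_le ?_ ((norm_sub_le _ _).trans (max_le ?_ ?_)))
    · refine hsx.trans (mul_le_mul_of_nonneg_right (hpmono ?_) hx1.le)
      have : e + 3 ≤ k := le_max_right _ _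
      omega
    · rw [norm_mul]
      exact (mul_le_of_le_one_left (norm_nonneg _) (norm_intCast_le _)).trans ((hs1 1 _).trans hxy.le)
    · rw [norm_mul]
      exact (mul_le_of_le_one_left (norm_nonneg _) (norm_intCast_le _)).trans hxy.le
  have hFz : F ((α : C) * s 1 y - β * y) = ((α - β : ℤ) : C) * F y := by
    rw [map_sub, hFint, hFint, hF, T_comp ζ hζ hs hm1 hk1 hyk, Int.cast_sub, sub_mul]
  have hFy : ‖F y‖ ≤ ‖(p : C)‖ ^ 2 * ‖x‖ := by
    have h1 : ‖F ((α : C) * s 1 y - β * y)‖ ≤ ‖(p : C)‖⁻¹ * ‖(α : C) * s 1 y - β * y‖ :=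
      norm_T_le ζ hζ hs hp1 hK hmk (Subalgebra.sub_mem _ (hintmem α _ (hsmem y hyk)) (hintmem β _ hyk))
    rw [hFz, norm_mul] at h1
    have h2 : ‖(p : C)‖ ^ (m + e) * ‖F y‖ ≤ ‖(p : C)‖ ^ (m + e) * (‖(p : C)‖ ^ 2 * ‖x‖) := by
      refine (mul_le_mul_of_nonneg_right hαβ (norm_nonneg _)).trans (h1.trans ?_)
      refine (mul_le_mul_of_nonneg_left hz (inv_nonneg.2 h0.le)).trans (le_of_eq ?_)
      have h3 : ‖(p : C)‖ ^ (m + e + 3) = ‖(p : C)‖ * (‖(p : C)‖ ^ (m + e) * ‖(p : C)‖ ^ 2) := by ring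
      rw [h3, mul_assoc ‖(p : C)‖, ← mul_assoc ‖(p : C)‖⁻¹, inv_mul_cancel₀ h0.ne', one_mul, mul_assoc]
    exact le_of_mul_le_mul_left h2 (pow_pos h0 _)
  -- comparison with the first approximation
  have hy₁k : y₁ ∈ Algebra.adjoin K ({ζ (m + k)} : Set C) := adjoin_mono ζ hζ' (Nat.le_add_right _ _) hy₁m
  have hFy₁ : F y₁ = y₁ := T_eq ζ hζ hζ' hs hy₁m
  have hyy : ‖y - y₁‖ ≤ ‖(p : C)‖ ^ 2 * ‖x‖ := by
    have e1 : y - y₁ = (x - y₁) - (x - y) := by ring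
    rw [e1]
    refine (norm_sub_le _ _).trans (max_le hxy₁.le (hxy.le.trans ?_))
    exact mul_le_mul_of_nonneg_right (hpmono (by omega)) hx1.le
  have hFyy : ‖F (y - y₁)‖ ≤ ‖(p : C)‖ * ‖x‖ := by
    refine (norm_T_le ζ hζ hs hp1 hK hmk (Subalgebra.sub_mem _ hyk hy₁k)).trans ?_
    refine (mul_le_mul_of_nonneg_left hyy (inv_nonneg.2 h0.le)).trans (le_of_eq ?_)
    rw [pow_two, mul_assoc, ← mul_assoc ‖(p : C)‖⁻¹, inv_mul_cancel₀ h0.ne', one_mul]
  have hp2 : ‖(p : C)‖ ^ 2 * ‖x‖ ≤ ‖(p : C)‖ * ‖x‖ := by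
    refine mul_le_mul_of_nonneg_right ?_ hx1.le
    rw [pow_two]
    exact mul_le_of_le_one_left h0.le hp1.le
  have hy₁n : ‖y₁‖ ≤ ‖(p : C)‖ * ‖x‖ := by
    have e1 : y₁ = F y - F (y - y₁) := by rw [map_sub, hFy₁]; ring
    rw [e1]
    exact (norm_sub_le _ _).trans (max_le (hFy.trans hp2) hFyy)
  have hfin : ‖x‖ ≤ ‖(p : C)‖ * ‖x‖ := by
    have e1 : x = (x - y₁) + y₁ := by ring
    conv_lhs => rw [e1]
    exact (IsUltrametricDist.norm_add_le_max _ _).trans (max_le (hxy₁.le.trans hp2) hy₁n)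
  have : ‖(p : C)‖ * ‖x‖ < ‖x‖ := mul_lt_of_lt_one_left hx1 hp1
  exact absurd hfin (not_le.2 this)

/-- The cyclotomic polynomials are irreducible over `K`. -/
theorem minpoly_eq (hp1 : ‖(p : C)‖ < 1) (hK : ∀ x : K, x ≠ 0 → ∃ n : ℤ, ‖x‖ = ‖(p : C)‖ ^ n)
    {n : ℕ} (hn : n ≠ 0) {ζ : C} (h : IsPrimitiveRoot ζ (p ^ n)) : minpoly K ζ = cyclotomic (p ^ n) K := by
  have hint : IsIntegral K ζ := (h.isIntegral (pow_pos hp.1.pos n)).tower_top
  have hint' : IsIntegral K (ζ - 1) := hint.sub isIntegral_one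
  have hdvd : minpoly K ζ ∣ cyclotomic (p ^ n) K := by
    apply minpoly.dvd
    rw [← eval_map_algebraMap, map_cyclotomic]
    exact (isRoot_cyclotomic_iff (R := C)).2 h
  have hdeg : (minpoly K (ζ - 1)).natDegree = (minpoly K ζ).natDegree := by
    have := minpoly.sub_algebraMap (x := ζ) (1 : K)
    rw [map_one] at this
    rw [this, natDegree_comp, natDegree_X_add_C, mul_one]
  have hge : (p ^ n).totient ≤ (minpoly K (ζ - 1)).natDegree := by
    by_contra hlt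
    rw [not_le] at hlt
    set f := minpoly K (ζ - 1) with hf
    have h1 := orth (K := K) hp1 hK hn h (fun j => f.coeff j) hlt
    have h2 : ∑ j ∈ Finset.range (p ^ n).totient, algebraMap K C (f.coeff j) * (ζ - 1) ^ j = 0 := by
      have h3 : aeval (ζ - 1) f = 0 := minpoly.aeval K (ζ - 1)
      rw [aeval_eq_sum_range' hlt] at h3
      rw [← h3]
      exact Finset.sum_congr rfl fun j _ => (Algebra.smul_def _ _).symm
    have h4 : f.coeff f.natDegree = 1 := (minpoly.monic hint').coeff_natDegree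
    rw [h2, norm_zero, h4, map_one, one_mul, norm_pow] at h1
    have h5 : ‖ζ - 1‖ ^ f.natDegree = 0 := le_antisymm h1 (pow_nonneg (norm_nonneg _) _)
    have h6 : ‖ζ - 1‖ = 0 := (pow_eq_zero_iff (minpoly.natDegree_pos hint').ne').1 h5
    have h7 := norm_sub_one_pow (C := C) hn h
    rw [h6, zero_pow (totient_pos n).ne'] at h7
    exact (norm_p_pos (p := p) (C := C)).ne h7
  symm
  refine Polynomial.eq_of_monic_of_dvd_of_natDegree_le (minpoly.monic hint) (cyclotomic.monic _ K) hdvd ?_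
  rw [natDegree_cyclotomic, ← hdeg]
  exact hge

/-- The Galois group realises all exponents. -/
theorem exists_aut [Normal K C] (hp1 : ‖(p : C)‖ < 1) (hK : ∀ x : K, x ≠ 0 → ∃ n : ℤ, ‖x‖ = ‖(p : C)‖ ^ n)
    {n : ℕ} {ζ : C} (h : IsPrimitiveRoot ζ (p ^ n)) {a : ℕ} (ha : Nat.Coprime a p) :
    ∃ σ : C ≃ₐ[K] C, σ ζ = ζ ^ a := by
  rcases Nat.eq_zero_or_pos n with rfl | hn
  · refine ⟨AlgEquiv.refl, ?_⟩
    have h1 : ζ = 1 := by
      have := h.pow_eq_one
      rwa [pow_zero, pow_one] at this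
    rw [h1, one_pow]
    rfl
  · have h' : IsPrimitiveRoot (ζ ^ a) (p ^ n) := h.pow_of_coprime a (Nat.Coprime.pow_right n ha)
    have h1 : minpoly K (ζ ^ a) = minpoly K ζ := by
      rw [minpoly_eq hp1 hK hn.ne' h, minpoly_eq hp1 hK hn.ne' h']
    obtain ⟨σ, hσ⟩ := Normal.minpoly_eq_iff_mem_orbit (F := K) (E := C) |>.1 h1
    exact ⟨σ, hσ⟩

end Tower

end K852.Cyc
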