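import Groth.Agent.SGA7.K852.OmPts
import Groth.Agent.SGA7.K852.Dict

/-!
# Lie elements of the finite part of a smooth group

Let `G` be a group scheme over `R` with an open chart `u : Spec C → G` through the unit section `e : C → R`, and
`j n : W n → G` monomorphisms from the layers of a Barsotti-Tate system, through which all `p^n`-torsion points with
values in schemes closed over `Spec R` factor.  Every point derivation `D : C → R` defines a Lie element of the system.
-/

set_option autoImplicit false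
universe u
open CategoryTheory MonoidalCategory CartesianMonoidalCategory MonObj GrpObj AlgebraicGeometry
open Groth.Agent.Books Groth.Agent.Books.AffBridge LieS K852.OmPts K564.Tate

namespace K852.OmLie

section One

variable {R : Type u} [CommRing R] {C : Type u} [CommRing C] [Algebra R C] {e : C →ₐ[R] R}
  {G : Over (Spec (CommRingCat.of R))} [GrpObj G] (u : SpecOver R C ⟶ G) (hu : specMap R e ≫ u = 1)
  [IsOpenImmersion u.left]
  {B : Type u} [CommRing B] [HopfAlgebra R B] (j : SpecOver R B ⟶ G) [IsMonHom j]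
  (T : Type u) [CommRing T] [Algebra R T]

theorem counit_chart (B : Type u) [CommRing B] [HopfAlgebra R B] :
    specMap R (Bialgebra.counitAlgHom R B) ≫ 𝟙 (SpecOver R B) = 1 := by
  rw [Category.comp_id, ← specMap_one]
  rfl

include hu in
theorem exists_theta (σ : DerAt (Bialgebra.counitAlgHom R B) T) :
    ∃ D : DerAt e T, xD u D = xD (𝟙 (SpecOver R B)) σ ≫ j := by
  refine exists_xD u hu _ ?_
  rw [← Category.assoc, zeroSec_xD _ (counit_chart B), MonObj.one_comp]

omit [GrpObj G] in
theorem u_mono : Mono u := Over.mono_of_mono_left u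

/-- The map of tangent spaces. -/
noncomputable def theta : DerAt (Bialgebra.counitAlgHom R B) T →ₗ[T] DerAt e T where
  toFun σ := (exists_theta u hu j T σ).choose
  map_add' σ τ := by
    have := u_mono u
    apply xD_injective u
    rw [xD_add u hu, (exists_theta u hu j T _).choose_spec, (exists_theta u hu j T _).choose_spec,
      (exists_theta u hu j T _).choose_spec, xD_add _ (counit_chart B), MonObj.mul_comp]
  map_smul' t σ := by
    have := u_mono u
    apply xD_injective u
    have h1 := (exists_theta u hu j T (t • σ)).choose_spec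
    have h2 := (exists_theta u hu j T σ).choose_spec
    refine h1.trans ?_
    rw [RingHom.id_apply, xD_smul u t, h2, xD_smul _ t, Category.assoc]

theorem theta_spec (σ : DerAt (Bialgebra.counitAlgHom R B) T) :
    xD u (theta u hu j T σ) = xD (𝟙 (SpecOver R B)) σ ≫ j := (exists_theta u hu j T σ).choose_spec

theorem theta_injective [Mono j] : Function.Injective (theta u hu j T) := by
  intro σ τ h
  apply xD_injective (𝟙 (SpecOver R B))
  rw [← cancel_mono j, ← theta_spec u hu j T σ, ← theta_spec u hu j T τ, h]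

include hu in
omit [IsOpenImmersion u.left] in
/-- killed by `m` if `m = 0` in the test ring. -/
theorem pow_eq_one (m : ℕ) (hm : (m : T) = 0) (D : DerAt e T) : xD u D ^ m = 1 := by
  let v : LieS.Lie G T (fR R T) := ⟨xD u D, zeroSec_xD u hu D⟩
  have h := K988.LieScale.zpow_eq (fR R T) G v m
  rw [Int.cast_natCast, hm, K988.LieScale.zero_smul', zpow_natCast] at h
  exact congrArg Subtype.val h

theorem theta_surjective [Mono j] (m : ℕ) (hm : (m : T) = 0)
    (hlift : ∀ x : dpt T (fR R T) ⟶ G, x ^ m = 1 → ∃ y, y ≫ j = x) : Function.Surjective (theta u hu j T) := by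
  intro D
  obtain ⟨y, hy⟩ := hlift _ (pow_eq_one u hu T m hm D)
  have hy1 : zeroSec T (fR R T) ≫ y = 1 := by
    rw [← cancel_mono j, Category.assoc, hy, zeroSec_xD u hu, MonObj.one_comp]
  have hI : IsOpenImmersion (𝟙 (SpecOver R B) : SpecOver R B ⟶ SpecOver R B).left := by
    rw [Over.id_left]
    infer_instance
  obtain ⟨σ, hσ⟩ := exists_xD (𝟙 (SpecOver R B)) (counit_chart B) y hy1
  refine ⟨σ, ?_⟩
  have := u_mono u
  apply xD_injective u
  rw [theta_spec, hσ, hy]

variable {T} in
theorem theta_derMap {T' : Type u} [CommRing T'] [Algebra R T'] (h : T →ₐ[R] T')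
    (σ : DerAt (Bialgebra.counitAlgHom R B) T) :
    theta u hu j T' (derMap h σ) = derMap h (theta u hu j T σ) := by
  have := u_mono u
  apply xD_injective u
  rw [theta_spec, ← dT_xD, ← dT_xD, theta_spec, Category.assoc]

/-- restriction of point derivations along a bialgebra map. -/
def derComp {B' : Type u} [CommRing B'] [HopfAlgebra R B'] (f : B' →ₐc[R] B)
    (σ : DerAt (Bialgebra.counitAlgHom R B) T) : DerAt (Bialgebra.counitAlgHom R B') T :=
  ⟨σ.1 ∘ₗ (f : B' →ₐ[R] B).toLinearMap, fun a b => by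
    have h1 : ∀ x : B', Bialgebra.counitAlgHom R B' x = Bialgebra.counitAlgHom R B (f x) := fun x =>
      (CoalgHomClass.counit_comp_apply f x).symm
    rw [h1, h1]
    change σ.1 (f (a * b)) = _ * σ.1 (f b) + _ * σ.1 (f a)
    rw [map_mul, derAt_mul σ]⟩

theorem xD_derComp {B' : Type u} [CommRing B'] [HopfAlgebra R B'] (f : B' →ₐc[R] B)
    (σ : DerAt (Bialgebra.counitAlgHom R B) T) :
    xD (𝟙 (SpecOver R B')) (derComp T f σ) = xD (𝟙 (SpecOver R B)) σ ≫ specMap R (f : B' →ₐ[R] B) := by
  rw [xD, xD, Category.comp_id, Category.comp_id]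
  apply Over.OverMorphism.ext
  symm
  refine K988.LieCalc.specMap_comp_eq _ _ _ fun c => ?_
  change toDual σ (f c) = toDual (derComp T f σ) c
  apply TrivSqZeroExt.ext
  · rw [toDual_fst, toDual_fst]
    exact congrArg (algebraMap R T) (CoalgHomClass.counit_comp_apply f c)
  · rw [toDual_snd, toDual_snd]
    rfl

theorem theta_derComp {B' : Type u} [CommRing B'] [HopfAlgebra R B'] (f : B' →ₐc[R] B)
    (j' : SpecOver R B' ⟶ G) [IsMonHom j'] (hj : specMap R (f : B' →ₐ[R] B) ≫ j' = j)
    (σ : DerAt (Bialgebra.counitAlgHom R B) T) :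
    theta u hu j' T (derComp T f σ) = theta u hu j T σ := by
  have := u_mono u
  apply xD_injective u
  rw [theta_spec, theta_spec, xD_derComp, Category.assoc, hj]

end One

section Tower

variable {R : Type u} [CommRing R] {C : Type u} [CommRing C] [Algebra R C] {e : C →ₐ[R] R}
  {G : Over (Spec (CommRingCat.of R))} [GrpObj G] (u : SpecOver R C ⟶ G) (hu : specMap R e ≫ u = 1)
  [IsOpenImmersion u.left] {p h : ℕ} (Φ : Sys R p h)

/-- the quotient map `R → R/p^n` as an algebra map. -/
abbrev qn (R : Type u) [CommRing R] (p n : ℕ) : R →ₐ[R] R ⧸ Ideal.span {(p : R) ^ n} :=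
  Ideal.Quotient.mkₐ R (Ideal.span {(p : R) ^ n})

theorem qn_eq_zero {n : ℕ} {x : R} : qn R p n x = 0 ↔ (p : R) ^ n ∣ x := by
  change Ideal.Quotient.mk _ x = 0 ↔ _
  rw [Ideal.Quotient.eq_zero_iff_mem, Ideal.mem_span_singleton]

/-- `R/p^(n+1) → R/p^n`. -/
noncomputable def qs (R : Type u) [CommRing R] (p n : ℕ) :
    R ⧸ Ideal.span {(p : R) ^ (n + 1)} →ₐ[R] R ⧸ Ideal.span {(p : R) ^ n} :=
  Ideal.Quotient.factorₐ R (Ideal.span_singleton_le_span_singleton.mpr (pow_dvd_pow _ n.le_succ))

theorem qs_qn (n : ℕ) (x : R) : qs R p n (qn R p (n + 1) x) = qn R p n x := rfl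

variable {Φ} (j : ∀ n, SpecOver R (Φ.B n) ⟶ G) (hj : ∀ n, IsMonHom (j n)) (hm : ∀ n, Mono (j n))
  (hc : ∀ n, specMap R (Φ.res n : Φ.B (n + 1) →ₐ[R] Φ.B n) ≫ j (n + 1) = j n)
  (hlift : ∀ n (T : Type u) [CommRing T] [Algebra R T], (p : T) ^ n = 0 →
    Function.Surjective (algebraMap R T) → ∀ x : dpt T (fR R T) ⟶ G, x ^ (p ^ n) = 1 → ∃ y, y ≫ j n = x)

include hj hm hc hlift hu in
/-- **Lie elements**: a point derivation of the chart defines a Lie element of the system. -/
theorem exists_isLie (D : DerAt e R) : ∃ t : ∀ n, Φ.B n →ₗ[R] R, Φ.IsLie t ∧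
    ∀ n, ∃ σ : DerAt (Bialgebra.counitAlgHom R (Φ.B n)) (R ⧸ Ideal.span {(p : R) ^ n}),
      (∀ b, σ.1 b = qn R p n (t n b)) ∧ (have := hj n; theta u hu (j n) _ σ = derMap (qn R p n) D) := by
  have h1 : ∀ n, ∃ σ : DerAt (Bialgebra.counitAlgHom R (Φ.B n)) (R ⧸ Ideal.span {(p : R) ^ n}),
      (have := hj n; theta u hu (j n) _ σ = derMap (qn R p n) D) := by
    intro n
    have := hj n
    have := hm n
    have hz : (p : R ⧸ Ideal.span {(p : R) ^ n}) ^ n = 0 := by
      have := (qn_eq_zero (R := R) (p := p) (n := n) (x := (p : R) ^ n)).mpr dvd_rfl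
      rwa [map_pow, map_natCast] at this
    exact theta_surjective u hu (j n) _ (p ^ n) (by rw [Nat.cast_pow]; exact hz)
      (hlift n _ hz Ideal.Quotient.mk_surjective) _
  choose σ hσ using h1
  have h2 : ∀ n, ∃ t : Φ.B n →ₗ[R] R, ∀ b, (σ n).1 b = qn R p n (t b) := by
    intro n
    obtain ⟨t, ht⟩ := Module.projective_lifting_property (qn R p n).toLinearMap (σ n).1
      Ideal.Quotient.mk_surjective
    exact ⟨t, fun b => (DFunLike.congr_fun ht b).symm⟩
  choose t ht using h2
  refine ⟨t, ⟨fun n a b => ?_, fun n b => ?_⟩, fun n => ⟨σ n, ht n, hσ n⟩⟩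
  · rw [← qn_eq_zero, map_sub, sub_eq_zero, ← ht]
    refine (derAt_mul (σ n) a b).trans ?_
    rw [ht, ht, map_add, map_mul (qn R p n), map_mul (qn R p n)]
    rfl
  · have e1 : derMap (qs R p n) (σ (n + 1)) = derComp _ (Φ.res n) (σ n) := by
      have := hj n
      have := hj (n + 1)
      have := hm (n + 1)
      apply theta_injective u hu (j (n + 1))
      rw [theta_derMap, theta_derComp u hu (j n) _ (Φ.res n) (j (n + 1)) (hc n), hσ (n + 1), hσ n]
      rfl
    have e2 := congrArg (fun s => s.1 b) e1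
    change qs R p n ((σ (n + 1)).1 b) = (σ n).1 (Φ.res n b) at e2
    rw [ht, ht, qs_qn] at e2
    rw [← qn_eq_zero, map_sub, sub_eq_zero]
    exact e2

include hu in
/-- the key computation for `exists_family`. -/
theorem sum_aux (k : Type u) [CommRing k] [Algebra R k] (q : (R ⧸ Ideal.span {(p : R) ^ 1}) →ₐ[R] k)
    (h1 : IsMonHom (j 1)) {d : ℕ} (D : Fin d → DerAt e R) (t : Fin d → (Φ.B 1 →ₗ[R] R))
    (σ : Fin d → DerAt (Bialgebra.counitAlgHom R (Φ.B 1)) (R ⧸ Ideal.span {(p : R) ^ 1}))
    (ht : ∀ i b, (σ i).1 b = qn R p 1 (t i b))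
    (hσ : ∀ i, theta u hu (j 1) _ (σ i) = derMap (qn R p 1) (D i)) (c : Fin d → R)
    (hcs : ∀ x, algebraMap R k (∑ l, c l * t l x) = 0) :
    ∑ i, algebraMap R k (c i) • derMap (Algebra.ofId R k) (D i) = 0 := by
  have hth : ∀ i, theta u hu (j 1) k (derMap q (σ i)) = derMap (Algebra.ofId R k) (D i) := by
    intro i
    rw [theta_derMap, hσ i]
    apply Subtype.ext
    apply LinearMap.ext
    intro x
    exact q.commutes _
  have hsum : ∑ i, algebraMap R k (c i) • derMap q (σ i) = 0 := by
    apply Subtype.ext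
    apply LinearMap.ext
    intro x
    have h1 := hcs x
    rw [map_sum] at h1
    rw [Submodule.coe_sum, LinearMap.sum_apply]
    refine Eq.trans (Finset.sum_congr rfl fun i _ => ?_) h1
    change algebraMap R k (c i) * q ((σ i).1 x) = _
    rw [ht i, map_mul]
    exact congrArg _ (q.commutes _)
  have h2 := congrArg (theta u hu (j 1) k) hsum
  rw [map_sum, map_zero] at h2
  rw [← h2]
  exact Finset.sum_congr rfl fun i _ => by rw [map_smul, hth]

/-- `R/p → k`. -/
noncomputable def qk (R : Type u) [CommRing R] (p : ℕ) (k : Type u) [CommRing k] [Algebra R k]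
    (hp : (p : k) = 0) : (R ⧸ Ideal.span {(p : R) ^ 1}) →ₐ[R] k :=
  Ideal.Quotient.liftₐ _ (Algebra.ofId R k) fun a ha => by
    rw [Ideal.mem_span_singleton] at ha
    obtain ⟨b, rfl⟩ := ha
    rw [map_mul, map_pow, map_natCast, hp, pow_one, zero_mul]

include hj hm hc hlift hu in
/-- **Lie elements**, for a family of point derivations independent over `k`, an `R`-algebra with `p = 0`. -/
theorem exists_family (k : Type u) [CommRing k] [Algebra R k] (hp : (p : k) = 0) {d : ℕ} (D : Fin d → DerAt e R)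
    (hD : LinearIndependent k (fun i => derMap (Algebra.ofId R k) (D i))) :
    ∃ t : Fin d → ∀ n, Φ.B n →ₗ[R] R, (∀ i, Φ.IsLie (t i)) ∧
      ∀ c : Fin d → R, (∀ x : Φ.B 1, algebraMap R k (∑ l, c l * t l 1 x) = 0) → ∀ l, algebraMap R k (c l) = 0 := by
  have hex : ∀ i, ∃ t : ∀ n, Φ.B n →ₗ[R] R, Φ.IsLie t ∧ ∃ σ : DerAt (Bialgebra.counitAlgHom R (Φ.B 1))
      (R ⧸ Ideal.span {(p : R) ^ 1}), (∀ b, σ.1 b = qn R p 1 (t 1 b)) ∧
        (have := hj 1; theta u hu (j 1) _ σ = derMap (qn R p 1) (D i)) := fun i => by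
    obtain ⟨t, ht, h⟩ := exists_isLie u hu j hj hm hc hlift (D i)
    exact ⟨t, ht, h 1⟩
  choose t ht σ hσ hσ' using hex
  refine ⟨t, ht, fun c hcs l => ?_⟩
  have h3 := sum_aux u hu j k (qk R p k hp) (hj 1) D (fun i => t i 1) σ hσ hσ' c hcs
  have h4 := (Fintype.linearIndependent_iff (R := k) (M := DerAt e k)
    (v := fun i => derMap (Algebra.ofId R k) (D i))).mp hD
  exact h4 (fun i => algebraMap R k (c i)) h3 l

end Tower

end K852.OmLie
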