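import Groth.Agent.LieS.K988.Scale
import Groth.Agent.Books.AffBridge

/-!
# Tangent vectors at the unit through a chart

`C` an `R`-algebra with an augmentation `e : C → R`, `u : Spec C → X` a morphism to a monoid scheme carrying the
section `e` to the unit.  Point derivations `D : C → T` at `e` define points of `X` with values in `T[ε]`,
reducing to the unit; the group law of `X` corresponds to the addition of point derivations.
-/

set_option autoImplicit false
universe u
open CategoryTheory MonoidalCategory CartesianMonoidalCategory MonObj GrpObj AlgebraicGeometry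
open Groth.Agent.Books.AffBridge Groth.Agent.FlatB.PushRing LieS

namespace K852.OmPts

section Der

variable {R : Type u} [CommRing R] {C : Type u} [CommRing C] [Algebra R C] (e : C →ₐ[R] R)
  (T : Type u) [CommRing T] [Algebra R T]

/-- Point derivations of `C` at `e` with values in the `R`-algebra `T`. -/
def DerAt : Submodule T (C →ₗ[R] T) where
  carrier := {D | ∀ a b, D (a * b) = algebraMap R T (e a) * D b + algebraMap R T (e b) * D a}
  add_mem' {D D'} h h' a b := by
    rw [LinearMap.add_apply, LinearMap.add_apply, LinearMap.add_apply, h a b, h' a b]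
    ring
  zero_mem' a b := by
    simp
  smul_mem' t D h a b := by
    rw [LinearMap.smul_apply, LinearMap.smul_apply, LinearMap.smul_apply, h a b, smul_eq_mul, smul_eq_mul,
      smul_eq_mul]
    ring

variable {e T}

theorem derAt_mul (D : DerAt e T) (a b : C) :
    D.1 (a * b) = algebraMap R T (e a) * D.1 b + algebraMap R T (e b) * D.1 a := D.2 a b

theorem derAt_one (D : DerAt e T) : D.1 1 = 0 := by
  have h := derAt_mul D 1 1
  have h1 : algebraMap R T (e 1) = 1 := by rw [map_one, map_one]
  rw [_root_.mul_one, h1, _root_.one_mul] at h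
  exact left_eq_add.mp h

/-- The algebra map of a point derivation. -/
def toDual (D : DerAt e T) : C →ₐ[R] DualNumber T where
  toFun c := TrivSqZeroExt.inl (algebraMap R T (e c)) + TrivSqZeroExt.inr (D.1 c)
  map_one' := by
    rw [derAt_one D, _root_.map_one, _root_.map_one, TrivSqZeroExt.inr_zero, add_zero, TrivSqZeroExt.inl_one]
  map_mul' a b := by
    apply TrivSqZeroExt.ext
    · simp
    · rw [derAt_mul D]
      simp
      ring
  map_zero' := by simp
  map_add' a b := by
    apply TrivSqZeroExt.ext <;> simp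
  commutes' r := by
    have h : D.1 (algebraMap R C r) = 0 := by
      rw [Algebra.algebraMap_eq_smul_one, map_smul, derAt_one D, smul_zero]
    rw [h, AlgHom.commutes, TrivSqZeroExt.inr_zero, add_zero]
    rfl

@[simp] theorem toDual_fst (D : DerAt e T) (c : C) : (toDual D c).fst = algebraMap R T (e c) := by
  simp [toDual]

@[simp] theorem toDual_snd (D : DerAt e T) (c : C) : (toDual D c).snd = D.1 c := by
  simp [toDual]

/-- A point derivation from an algebra map. -/
def ofDual (φ : C →ₐ[R] DualNumber T) (h : ∀ c, (φ c).fst = algebraMap R T (e c)) : DerAt e T :=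
  ⟨{ toFun := fun c => (φ c).snd
     map_add' := fun a b => by rw [_root_.map_add, TrivSqZeroExt.snd_add]
     map_smul' := fun r a => by rw [map_smul, TrivSqZeroExt.snd_smul]; rfl }, fun a b => by
    change (φ (a * b)).snd = _ * (φ b).snd + _ * (φ a).snd
    rw [_root_.map_mul, DualNumber.snd_mul, h, h]
    ring⟩

theorem toDual_ofDual (φ : C →ₐ[R] DualNumber T) (h : ∀ c, (φ c).fst = algebraMap R T (e c)) :
    toDual (ofDual φ h) = φ := by
  apply AlgHom.ext
  intro c
  apply TrivSqZeroExt.ext
  · rw [toDual_fst, h]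
  · rw [toDual_snd]
    rfl

theorem toDual_injective : Function.Injective (toDual : DerAt e T → _) := by
  intro D D' h
  apply Subtype.ext
  apply LinearMap.ext
  intro c
  rw [← toDual_snd, ← toDual_snd, h]

end Der

section Pts

variable {R : Type u} [CommRing R] {C : Type u} [CommRing C] [Algebra R C] {e : C →ₐ[R] R}
  {T : Type u} [CommRing T] [Algebra R T]

/-- the structure map of the test scheme -/
noncomputable abbrev fR (R : Type u) [CommRing R] (T : Type u) [CommRing T] [Algebra R T] :
    Spec (CommRingCat.of T) ⟶ Spec (CommRingCat.of R) :=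
  Spec.map (CommRingCat.ofHom (algebraMap R T))

/-- the point of `Spec C` attached to an algebra map. -/
noncomputable def sp (φ : C →ₐ[R] DualNumber T) : dpt T (fR R T) ⟶ SpecOver R C :=
  Over.homMk (Spec.map (CommRingCat.ofHom φ.toRingHom)) (by
    change Spec.map _ ≫ Spec.map _ = Spec.map _ ≫ Spec.map _
    rw [LieS.specMap_comp, LieS.specMap_comp]
    congr 2
    exact RingHom.ext fun r => (φ.commutes r).trans (by simp [TrivSqZeroExt.algebraMap_eq_inl']))

theorem sp_left (φ : C →ₐ[R] DualNumber T) : (sp φ).left = Spec.map (CommRingCat.ofHom φ.toRingHom) := rfl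

theorem sp_injective : Function.Injective (sp : (C →ₐ[R] DualNumber T) → _) := by
  intro φ ψ h
  have h1 : Spec.map (CommRingCat.ofHom φ.toRingHom) = Spec.map (CommRingCat.ofHom ψ.toRingHom) :=
    congrArg (fun t => t.left) h
  have h2 := Spec.map_injective h1
  apply AlgHom.ext
  intro c
  exact congrArg (fun t => t.hom c) h2

/-- every point of `Spec C` comes from an algebra map. -/
theorem exists_sp (y : dpt T (fR R T) ⟶ SpecOver R C) : ∃ φ : C →ₐ[R] DualNumber T, sp φ = y := by
  obtain ⟨g, hg⟩ := Spec.map_surjective y.left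
  have hw : Spec.map g ≫ Spec.map (CommRingCat.ofHom (algebraMap R C)) =
      Spec.map (CommRingCat.ofHom (algebraMap T (DualNumber T))) ≫ Spec.map (CommRingCat.ofHom (algebraMap R T)) := by
    rw [hg]
    exact Over.w y
  rw [← Spec.map_comp, ← Spec.map_comp] at hw
  have hw2 := Spec.map_injective hw
  let φ : C →ₐ[R] DualNumber T :=
    { g.hom with
      commutes' := fun r => by
        have h := congrArg (fun t => t.hom r) hw2
        refine Eq.trans h ?_
        simp [TrivSqZeroExt.algebraMap_eq_inl'] }
  refine ⟨φ, ?_⟩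
  apply Over.OverMorphism.ext
  rw [sp_left, ← hg]
  rfl

/-- the trivial algebra map `C → R → T[ε]`. -/
theorem zeroSec_sp (φ : C →ₐ[R] DualNumber T) (h : ∀ c, (φ c).fst = algebraMap R T (e c)) :
    zeroSec T (fR R T) ≫ sp φ =
      (Over.homMk (fR R T) (by
        change Spec.map _ ≫ Spec.map (CommRingCat.ofHom (algebraMap R R)) = Spec.map _
        rw [LieS.specMap_comp]) : pt T (fR R T) ⟶ SpecOver R R) ≫ specMap R e := by
  apply Over.OverMorphism.ext
  exact K988.LieCalc.specMap_sq _ _ _ _ fun c => (h c)

variable {X : Over (Spec (CommRingCat.of R))} (u : SpecOver R C ⟶ X)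

/-- The point of `X` defined by a point derivation on a chart. -/
noncomputable def xD (D : DerAt e T) : dpt T (fR R T) ⟶ X := sp (toDual D) ≫ u

section Mon

variable [MonObj X] (hu : specMap R e ≫ u = 1)

include hu in
theorem zeroSec_xD (D : DerAt e T) : zeroSec T (fR R T) ≫ xD u D = 1 := by
  rw [xD, ← Category.assoc, zeroSec_sp (e := e) (toDual D) (toDual_fst D), Category.assoc, hu, MonObj.comp_one]

open K988.LieCalc K988.LieScale

/-- the point of `Spec C` over the fibre product of two copies of the dual numbers attached to two point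
derivations. -/
noncomputable def pp (D D' : DerAt e T) : Pt (fR R T) (toD11 T) ⟶ SpecOver R C :=
  Over.homMk (Spec.map (CommRingCat.ofHom (eqL.lift (toDual D).toRingHom (toDual D').toRingHom
    (RingHom.ext fun c => (toDual_fst D c).trans (toDual_fst D' c).symm)))) (by
    change Spec.map _ ≫ Spec.map _ = Spec.map _ ≫ Spec.map _
    refine specMap_sq _ _ _ _ fun r => ?_
    apply Subtype.ext
    apply Prod.ext
    · exact ((toDual D).commutes r).trans (by
        change _ = algebraMap T (DualNumber T) (algebraMap R T r)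
        simp [TrivSqZeroExt.algebraMap_eq_inl'])
    · exact ((toDual D').commutes r).trans (by
        change _ = algebraMap T (DualNumber T) (algebraMap R T r)
        simp [TrivSqZeroExt.algebraMap_eq_inl']))

theorem ev_sp_left (φ : C →ₐ[R] DualNumber T) :
    (ev (fR R T) (algebraMap T (DualNumber T)) DualNumber.eps (eps_sq T) ≫ sp φ).left =
      Spec.map (CommRingCat.ofHom φ.toRingHom) := by
  rw [Over.comp_left, ev_eps_left, sp_left]
  exact Category.id_comp _

theorem rm_pp {C' : Type u} [CommRing C'] {h' : T →+* C'} (k : D11 T →+* C') (hk : k.comp (toD11 T) = h')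
    (D D' : DerAt e T) (g : C →+* C')
    (hg : ∀ c, k (eqL.lift (toDual D).toRingHom (toDual D').toRingHom
      (RingHom.ext fun c => (toDual_fst D c).trans (toDual_fst D' c).symm) c) = g c) :
    (rm (fR R T) k hk ≫ pp D D').left = Spec.map (CommRingCat.ofHom g) := by
  rw [Over.comp_left, rm_left]
  exact specMap_comp_eq _ _ _ hg

include hu in
/-- The group law is the addition of point derivations. -/
theorem xD_add (D D' : DerAt e T) : xD u (D + D') = xD u D * xD u D' := by
  have key : pp D D' ≫ u = (ev (fR R T) (toD11 T) (e₁ T) e₁_sq ≫ xD u D) *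
      (ev (fR R T) (toD11 T) (e₂ T) e₂_sq ≫ xD u D') := by
    apply d11_ext
    · rw [MonObj.comp_mul, rm_ev_assoc (fR R T) _ _ (e₂ T) _ 0 (by simp) rfl,
        ev_zero_comp (fR R T) _ (zeroSec_xD u hu D') _ _ _ rfl, _root_.mul_one,
        rm_ev_assoc (fR R T) _ _ (e₁ T) _ DualNumber.eps (eps_sq T) rfl, xD, ← Category.assoc, ← Category.assoc]
      congr 1
      apply over_ext
      rw [ev_sp_left]
      exact rm_pp _ _ D D' _ fun c => rfl
    · rw [MonObj.comp_mul, rm_ev_assoc (fR R T) _ _ (e₁ T) _ 0 (by simp) rfl,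
        ev_zero_comp (fR R T) _ (zeroSec_xD u hu D) _ _ _ rfl, _root_.one_mul,
        rm_ev_assoc (fR R T) _ _ (e₂ T) _ DualNumber.eps (eps_sq T) rfl, xD, ← Category.assoc, ← Category.assoc]
      congr 1
      apply over_ext
      rw [ev_sp_left]
      exact rm_pp _ _ D D' _ fun c => rfl
  have h2 := congrArg (fun z => rm (fR R T) (d11Hom (algebraMap T (DualNumber T)) DualNumber.eps DualNumber.eps
    (eps_sq T) (eps_sq T) (eps_sq T)) (d11Hom_comp _ _ _ _ _ _) ≫ z) key
  beta_reduce at h2
  rw [MonObj.comp_mul,
    rm_ev_assoc (fR R T) _ _ (e₁ T) _ DualNumber.eps (eps_sq T) (d11Hom_e₁ _ _ _ _ _ _),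
    rm_ev_assoc (fR R T) _ _ (e₂ T) _ DualNumber.eps (eps_sq T) (d11Hom_e₂ _ _ _ _ _ _),
    ← MonObj.comp_mul] at h2
  apply eq_of_ev_eps
  rw [← h2, xD, ← Category.assoc, ← Category.assoc]
  congr 1
  apply over_ext
  rw [ev_sp_left]
  symm
  refine rm_pp _ _ D D' _ fun c => ?_
  change algebraMap T (DualNumber T) (toDual D c).fst + algebraMap T (DualNumber T) (toDual D c).snd *
    DualNumber.eps + algebraMap T (DualNumber T) (toDual D' c).snd * DualNumber.eps = toDual (D + D') c
  apply TrivSqZeroExt.ext
  · simp [TrivSqZeroExt.algebraMap_eq_inl']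
  · simp [TrivSqZeroExt.algebraMap_eq_inl']

end Mon

/-- Rescaling of the dual coordinate is the scalar multiplication. -/
theorem xD_smul (t : T) (D : DerAt e T) : xD u (t • D) = scale T (fR R T) t ≫ xD u D := by
  rw [xD, xD, ← Category.assoc]
  congr 1
  apply K988.LieCalc.over_ext
  symm
  refine K988.LieCalc.specMap_comp_eq _ _ _ fun c => ?_
  change scaleHom t (toDual D c) = toDual (t • D) c
  apply TrivSqZeroExt.ext
  · simp [scaleHom, TrivSqZeroExt.algebraMap_eq_inl']
  · simp [scaleHom, TrivSqZeroExt.algebraMap_eq_inl', _root_.mul_comm]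

/-- Change of the test algebra. -/
def derMap {T' : Type u} [CommRing T'] [Algebra R T'] (h : T →ₐ[R] T') (D : DerAt e T) : DerAt e T' :=
  ⟨h.toLinearMap ∘ₗ D.1, fun a b => by
    change h (D.1 (a * b)) = _ * h (D.1 b) + _ * h (D.1 a)
    rw [derAt_mul D, map_add, map_mul, map_mul, AlgHom.commutes, AlgHom.commutes]⟩

@[simp] theorem derMap_apply {T' : Type u} [CommRing T'] [Algebra R T'] (h : T →ₐ[R] T') (D : DerAt e T) (c : C) :
    (derMap h D).1 c = h (D.1 c) := rfl

/-- the map of schemes of dual numbers. -/
noncomputable def dT {T' : Type u} [CommRing T'] [Algebra R T'] (h : T →ₐ[R] T') :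
    dpt T' (fR R T') ⟶ dpt T (fR R T) :=
  Over.homMk (Spec.map (CommRingCat.ofHom (bcHom h.toRingHom))) (by
    change Spec.map _ ≫ Spec.map _ ≫ Spec.map _ = Spec.map _ ≫ Spec.map _
    rw [LieS.specMap_comp, LieS.specMap_comp, LieS.specMap_comp]
    congr 2
    refine RingHom.ext fun r => ?_
    change bcHom h.toRingHom (algebraMap T (DualNumber T) (algebraMap R T r)) =
      algebraMap T' (DualNumber T') (algebraMap R T' r)
    rw [← h.commutes]
    apply TrivSqZeroExt.ext <;> simp [bcHom, TrivSqZeroExt.algebraMap_eq_inl'])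

theorem dT_xD {T' : Type u} [CommRing T'] [Algebra R T'] (h : T →ₐ[R] T') (D : DerAt e T) :
    dT h ≫ xD u D = xD u (derMap h D) := by
  rw [xD, xD, ← Category.assoc]
  congr 1
  apply K988.LieCalc.over_ext
  refine K988.LieCalc.specMap_comp_eq _ _ _ fun c => ?_
  change bcHom h.toRingHom (toDual D c) = toDual (derMap h D) c
  apply TrivSqZeroExt.ext
  · simp [bcHom, TrivSqZeroExt.algebraMap_eq_inl']
  · simp [bcHom, TrivSqZeroExt.algebraMap_eq_inl']

/-- the point of `Spec R` under `Spec T`. -/
noncomputable def tR (R : Type u) [CommRing R] (T : Type u) [CommRing T] [Algebra R T] :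
    pt T (fR R T) ⟶ SpecOver R R :=
  Over.homMk (fR R T) (by
    change Spec.map _ ≫ Spec.map (CommRingCat.ofHom (algebraMap R R)) = Spec.map _
    rw [LieS.specMap_comp])

theorem surjective_fst (T : Type u) [CommRing T] :
    Function.Surjective (Spec.map (CommRingCat.ofHom (TrivSqZeroExt.fstHom T T T).toRingHom)) := by
  intro P
  have hnil : ∀ x : DualNumber T, x - TrivSqZeroExt.inl x.fst ∈ P.asIdeal := by
    intro x
    have h2 : (x - TrivSqZeroExt.inl x.fst) * (x - TrivSqZeroExt.inl x.fst) ∈ P.asIdeal := by
      have : (x - TrivSqZeroExt.inl x.fst) * (x - TrivSqZeroExt.inl x.fst) = 0 := by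
        apply TrivSqZeroExt.ext <;> simp
      rw [this]
      exact P.asIdeal.zero_mem
    rcases P.2.mem_or_mem h2 with h | h <;> exact h
  refine ⟨PrimeSpectrum.comap (TrivSqZeroExt.inlHom T T) P, ?_⟩
  apply PrimeSpectrum.ext
  ext x
  change TrivSqZeroExt.inl x.fst ∈ P.asIdeal ↔ x ∈ P.asIdeal
  constructor
  · intro h
    have := P.asIdeal.add_mem (hnil x) h
    rwa [sub_add_cancel] at this
  · intro h
    have := P.asIdeal.sub_mem h (hnil x)
    rwa [sub_sub_cancel] at this

/-- Points reducing to the unit come from point derivations on an open chart. -/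
theorem exists_xD [MonObj X] (hu : specMap R e ≫ u = 1) [IsOpenImmersion u.left] (v : dpt T (fR R T) ⟶ X)
    (hv : zeroSec T (fR R T) ≫ v = 1) : ∃ D : DerAt e T, xD u D = v := by
  have hz : Function.Surjective (zeroSec T (fR R T)).left := surjective_fst T
  have h1 : (1 : pt T (fR R T) ⟶ X) = tR R T ≫ specMap R e ≫ u := by
    rw [hu, MonObj.comp_one]
  have hr : Set.range v.left ⊆ Set.range u.left := by
    rintro _ ⟨y, rfl⟩
    obtain ⟨z, rfl⟩ := hz y
    have h2 : (zeroSec T (fR R T) ≫ v).left z = (tR R T ≫ specMap R e ≫ u).left z := by rw [hv, h1]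
    refine ⟨(tR R T ≫ specMap R e).left z, ?_⟩
    exact h2.symm
  let v' : dpt T (fR R T) ⟶ SpecOver R C := Over.homMk (IsOpenImmersion.lift u.left v.left hr) (by
    rw [← Over.w u, ← Category.assoc, IsOpenImmersion.lift_fac, Over.w])
  have hv' : v' ≫ u = v := by
    apply Over.OverMorphism.ext
    exact IsOpenImmersion.lift_fac _ _ _
  have hm : Mono u := Over.mono_of_mono_left u
  obtain ⟨φ, hφ⟩ := exists_sp v'
  have h2 : zeroSec T (fR R T) ≫ sp φ = tR R T ≫ specMap R e := by
    rw [← cancel_mono u, Category.assoc, hφ, hv', hv, h1, Category.assoc]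
  have h3 : ∀ c, (φ c).fst = algebraMap R T (e c) := by
    intro c
    have h4 : Spec.map (CommRingCat.ofHom (TrivSqZeroExt.fstHom T T T).toRingHom) ≫
        Spec.map (CommRingCat.ofHom φ.toRingHom) = fR R T ≫ Spec.map (CommRingCat.ofHom e.toRingHom) :=
      congrArg (fun t => t.left) h2
    rw [← Spec.map_comp, ← Spec.map_comp] at h4
    exact congrArg (fun t => t.hom c) (Spec.map_injective h4)
  refine ⟨ofDual φ h3, ?_⟩
  rw [xD, toDual_ofDual, hφ, hv']

/-- Points of a chart which is a monomorphism determine the point derivation. -/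
theorem xD_injective [Mono u] : Function.Injective (xD u : DerAt e T → _) := by
  intro D D' h
  rw [xD, xD, cancel_mono] at h
  exact toDual_injective (sp_injective h)

end Pts

end K852.OmPts
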